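import Cfsg.Agent.Lib.Core.PSolvable
import Cfsg.Agent.Lib.Core.Cores
import Cfsg.Agent.S0183

/-!
# Groups with the order and the element orders of `PSL(2, q)`, `q` odd: first properties

`q = p ^ m` is odd, `e` and `o` are the even and odd member of `(q - 1) / 2`, `(q + 1) / 2`.
-/

set_option autoImplicit false
set_option linter.style.haveILetI false

namespace Cfsg.Lib.Recog.OrderSpecPSL

open Subgroup

universe u

/-- The numerical data. -/
structure Data (G : Type u) [Group G] (p q e o : ℕ) : Prop where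
  hp : p.Prime
  hp2 : p ≠ 2
  hpq : ∃ m : ℕ, 0 < m ∧ q = p ^ m
  hq5 : 5 ≤ q
  he : 2 ∣ e
  he2 : 2 ≤ e
  ho : ¬ 2 ∣ o
  ho3 : 3 ≤ o
  heo : e ≤ o + 1
  hoe : o ≤ e + 1
  hsum : e + o = q
  hco : e.Coprime o
  hpe : ¬ p ∣ e
  hpo : ¬ p ∣ o
  card : Nat.card G = 2 * q * e * o
  spec : ∀ g : G, orderOf g ∣ p ∨ orderOf g ∣ e ∨ orderOf g ∣ o
  exE : ∃ g : G, orderOf g = e
  exO : ∃ g : G, orderOf g = o
  exP : ∃ g : G, orderOf g = p

variable {G : Type u} [Group G] [Finite G] {p q e o : ℕ}

theorem mem_singleton_centralizer {x y : G} :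
    y ∈ centralizer ({x} : Set G) ↔ y * x = x * y := mem_centralizer_singleton_iff

/-- A prime divisor of the order of a centralizer gives an element of the product order. -/
theorem exists_order_mul {x : G} {r s : ℕ} (hr : r.Prime) (hs : s.Prime) (hrs : r ≠ s)
    (hx : orderOf x = r) (hdvd : s ∣ Nat.card (centralizer ({x} : Set G))) :
    ∃ g : G, orderOf g = r * s := by
  haveI := Fact.mk hs
  obtain ⟨⟨c, hc⟩, hco⟩ := exists_prime_orderOf_dvd_card' s hdvd
  rw [orderOf_mk] at hco
  refine ⟨x * c, ?_⟩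
  rw [(Commute.symm (mem_singleton_centralizer.1 hc)).orderOf_mul_eq_mul_orderOf_of_coprime, hx, hco]
  rw [hx, hco]
  exact (Nat.coprime_primes hr hs).2 hrs

/-- In a finite cyclic group, elements of the same order generate the same subgroup. -/
theorem mem_zpowers_of_orderOf_eq {α : Type*} [Group α] [Finite α] [IsCyclic α] {g x : α}
    (h : orderOf g = orderOf x) : x ∈ zpowers g := by
  classical
  haveI := Fintype.ofFinite α
  have hsub : (Finset.univ.filter fun a : α => a ∈ zpowers g) ⊆ Finset.univ.filter fun a : α => a ^ orderOf g = 1 := by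
    intro a ha
    simp only [Finset.mem_filter, Finset.mem_univ, true_and] at ha ⊢
    obtain ⟨i, rfl⟩ := ha
    rw [← zpow_natCast, ← zpow_mul, mul_comm, zpow_mul, zpow_natCast, pow_orderOf_eq_one, one_zpow]
  have hle : (Finset.univ.filter fun a : α => a ^ orderOf g = 1).card ≤
      (Finset.univ.filter fun a : α => a ∈ zpowers g).card := by
    refine (IsCyclic.card_pow_eq_one_le (orderOf_pos g)).trans_eq ?_
    rw [← Nat.card_zpowers, ← Fintype.card_subtype, Nat.card_eq_fintype_card]
  have := (Finset.eq_of_subset_of_card_le hsub hle).ge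
    (show x ∈ Finset.univ.filter fun a : α => a ^ orderOf g = 1 by simp [h, pow_orderOf_eq_one])
  simpa using this

namespace Data

theorem q_coprime_e (h : Data G p q e o) : q.Coprime e := by
  obtain ⟨m, -, rfl⟩ := h.hpq
  exact (h.hp.coprime_iff_not_dvd.2 h.hpe).pow_left m

theorem q_coprime_o (h : Data G p q e o) : q.Coprime o := by
  obtain ⟨m, -, rfl⟩ := h.hpq
  exact (h.hp.coprime_iff_not_dvd.2 h.hpo).pow_left m

theorem two_coprime_q (h : Data G p q e o) : Nat.Coprime 2 q := by
  obtain ⟨m, -, rfl⟩ := h.hpq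
  exact ((Nat.coprime_primes Nat.prime_two h.hp).2 (Ne.symm h.hp2)).pow_right m

theorem two_e_coprime (h : Data G p q e o) : Nat.Coprime (2 * e) (q * o) :=
  Nat.Coprime.mul_left
    (h.two_coprime_q.mul_right ((Nat.prime_two.coprime_iff_not_dvd).2 h.ho))
    (h.q_coprime_e.symm.mul_right h.hco)

theorem prime_cases (h : Data G p q e o) {r : ℕ} (hr : r.Prime) (hd : r ∣ Nat.card G) :
    r = p ∨ r ∣ e ∨ r ∣ o := by
  rw [h.card] at hd
  rcases hr.dvd_mul.1 hd with h1 | h1
  · rcases hr.dvd_mul.1 h1 with h2 | h2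
    · rcases hr.dvd_mul.1 h2 with h3 | h3
      · exact Or.inr (Or.inl (h3.trans h.he))
      · obtain ⟨m, -, hm⟩ := h.hpq
        rw [hm] at h3
        exact Or.inl ((Nat.prime_dvd_prime_iff_eq hr h.hp).1 (hr.dvd_of_dvd_pow h3))
    · exact Or.inr (Or.inl h2)
  · exact Or.inr (Or.inr h1)

theorem not_dvd_e_and_o (h : Data G p q e o) {r : ℕ} (hr : r.Prime) (he : r ∣ e) : ¬ r ∣ o := fun ho =>
  hr.ne_one (Nat.dvd_one.1 (h.hco ▸ Nat.dvd_gcd he ho))

/-- The centralizer of an element of prime order dividing `e` has order dividing `2 e`. -/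
theorem centralizer_e (h : Data G p q e o) {x : G} {r : ℕ} (hr : r.Prime) (hre : r ∣ e)
    (hx : orderOf x = r) : Nat.card (centralizer ({x} : Set G)) ∣ 2 * e := by
  refine Nat.Coprime.dvd_of_dvd_mul_right ?_ (show Nat.card (centralizer ({x} : Set G)) ∣ 2 * e * (q * o) from
    (card_subgroup_dvd_card _).trans (dvd_of_eq (h.card.trans (by ring))))
  refine Nat.coprime_of_dvd fun s hs hsC hsqo => ?_
  have hse : ¬ s ∣ 2 * e := fun h' => hs.ne_one (Nat.dvd_one.1 (h.two_e_coprime ▸ Nat.dvd_gcd h' hsqo))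
  have hrs : r ≠ s := fun e' => hse (e' ▸ hre.mul_left 2)
  obtain ⟨g, hg⟩ := exists_order_mul hr hs hrs hx hsC
  rcases h.spec g with h1 | h1 | h1 <;> rw [hg] at h1
  · exact hrs ((((Nat.prime_dvd_prime_iff_eq hr h.hp).1 ((dvd_mul_right r s).trans h1))).trans
      ((Nat.prime_dvd_prime_iff_eq hs h.hp).1 ((dvd_mul_left s r).trans h1)).symm)
  · exact hse (((dvd_mul_left s r).trans h1).mul_left 2)
  · exact h.not_dvd_e_and_o hr hre ((dvd_mul_right r s).trans h1)

/-- The centralizer of an element of prime order dividing `o` has order dividing `o`. -/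
theorem centralizer_o (h : Data G p q e o) {x : G} {r : ℕ} (hr : r.Prime) (hro : r ∣ o)
    (hx : orderOf x = r) : Nat.card (centralizer ({x} : Set G)) ∣ o := by
  refine Nat.Coprime.dvd_of_dvd_mul_left ?_ (show Nat.card (centralizer ({x} : Set G)) ∣ 2 * q * e * o from
    (card_subgroup_dvd_card _).trans (dvd_of_eq h.card))
  refine Nat.coprime_of_dvd fun s hs hsC hsm => ?_
  have hso : ¬ s ∣ o := fun h' => by
    rcases hs.dvd_mul.1 hsm with h1 | h1
    · rcases hs.dvd_mul.1 h1 with h2 | h2
      · exact h.ho (((Nat.prime_dvd_prime_iff_eq hs Nat.prime_two).1 h2) ▸ h')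
      · exact hs.ne_one (Nat.dvd_one.1 (h.q_coprime_o ▸ Nat.dvd_gcd h2 h'))
    · exact h.not_dvd_e_and_o hs h1 h'
  have hrs : r ≠ s := fun e' => hso (e' ▸ hro)
  obtain ⟨g, hg⟩ := exists_order_mul hr hs hrs hx hsC
  rcases h.spec g with h1 | h1 | h1 <;> rw [hg] at h1
  · exact hrs ((((Nat.prime_dvd_prime_iff_eq hr h.hp).1 ((dvd_mul_right r s).trans h1))).trans
      ((Nat.prime_dvd_prime_iff_eq hs h.hp).1 ((dvd_mul_left s r).trans h1)).symm)
  · exact h.not_dvd_e_and_o hr ((dvd_mul_right r s).trans h1) hro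
  · exact hso ((dvd_mul_left s r).trans h1)

/-- The centralizer of an element of order `p` is a `p`-group. -/
theorem centralizer_p (h : Data G p q e o) {x : G} (hx : orderOf x = p) :
    IsPGroup p (centralizer ({x} : Set G)) ∧ Nat.card (centralizer ({x} : Set G)) ∣ q := by
  have hsub : ∀ s : ℕ, s.Prime → s ∣ Nat.card (centralizer ({x} : Set G)) → s = p := by
    intro s hs hsC
    by_contra hne
    obtain ⟨g, hg⟩ := exists_order_mul h.hp hs (Ne.symm hne) hx hsC
    rcases h.spec g with h1 | h1 | h1 <;> rw [hg] at h1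
    · exact hne ((Nat.prime_dvd_prime_iff_eq hs h.hp).1 ((dvd_mul_left s p).trans h1))
    · exact h.hpe ((dvd_mul_right p s).trans h1)
    · exact h.hpo ((dvd_mul_right p s).trans h1)
  constructor
  · refine IsPGroup.of_card (n := (Nat.card (centralizer ({x} : Set G))).primeFactorsList.length) ?_
    exact Nat.eq_prime_pow_of_unique_prime_dvd Nat.card_pos.ne' fun {s} hs hsC => hsub s hs hsC
  · refine Nat.Coprime.dvd_of_dvd_mul_left ?_ (show Nat.card (centralizer ({x} : Set G)) ∣ 2 * e * o * q from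
      (card_subgroup_dvd_card _).trans (dvd_of_eq (h.card.trans (by ring))))
    refine Nat.coprime_of_dvd fun s hs hsC hsm => ?_
    obtain rfl := hsub s hs hsC
    rcases hs.dvd_mul.1 hsm with h1 | h1
    · rcases hs.dvd_mul.1 h1 with h2 | h2
      · exact h.hp2 ((Nat.prime_dvd_prime_iff_eq hs Nat.prime_two).1 h2)
      · exact h.hpe h2
    · exact h.hpo h1

/-- Every Sylow subgroup for an odd prime dividing `e` or `o` is cyclic. -/
theorem sylow_cyclic (h : Data G p q e o) {r : ℕ} [Fact r.Prime] (hr2 : r ≠ 2) (hr : r ∣ e ∨ r ∣ o)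
    (R : Sylow r G) : IsCyclic (R : Subgroup G) := by
  have hr' : r.Prime := Fact.out
  have h2r : Nat.Coprime 2 r := (Nat.coprime_primes Nat.prime_two hr').2 (Ne.symm hr2)
  obtain ⟨n, hn, g, hg, hcop⟩ : ∃ n, 0 < n ∧ ∃ g : G, orderOf g = n ∧ ∃ j, Nat.card G = n * j ∧ ¬ r ∣ j := by
    rcases hr with hr | hr
    · obtain ⟨g, hg⟩ := h.exE
      refine ⟨e, by have := h.he2; omega, g, hg, 2 * q * o, h.card.trans (by ring), fun hd => ?_⟩
      have h1 : ¬ r ∣ q * o := fun h' =>
        hr'.ne_one (Nat.dvd_one.1 (h.two_e_coprime ▸ Nat.dvd_gcd (hr.mul_left 2) h'))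
      rw [mul_assoc] at hd
      rcases hr'.dvd_mul.1 hd with h' | h'
      · exact hr2 ((Nat.prime_dvd_prime_iff_eq hr' Nat.prime_two).1 h')
      · exact h1 h'
    · obtain ⟨g, hg⟩ := h.exO
      refine ⟨o, by have := h.ho3; omega, g, hg, 2 * q * e, h.card.trans (by ring), fun hd => ?_⟩
      rcases hr'.dvd_mul.1 hd with h' | h'
      · rcases hr'.dvd_mul.1 h' with h'' | h''
        · exact hr2 ((Nat.prime_dvd_prime_iff_eq hr' Nat.prime_two).1 h'')
        · exact hr'.ne_one (Nat.dvd_one.1 (h.q_coprime_o ▸ Nat.dvd_gcd h'' hr))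
      · exact h.not_dvd_e_and_o hr' h' hr
  obtain ⟨j, hj, hrj⟩ := hcop
  obtain ⟨k, m, hrm, hkm⟩ := Nat.exists_eq_pow_mul_and_not_dvd hn.ne' r hr'.ne_one
  have hm0 : m ≠ 0 := fun e' => hrm (e' ▸ dvd_zero r)
  have hord : orderOf (g ^ m) = r ^ k := by
    rw [orderOf_pow_of_dvd hm0 (hg ▸ hkm ▸ dvd_mul_left m _), hg, hkm, Nat.mul_div_cancel _ (Nat.pos_of_ne_zero hm0)]
  have hfac : (Nat.card G).factorization r = k := by
    have : Nat.card G = r ^ k * (m * j) := by rw [hj, hkm, mul_assoc]
    rw [this, Nat.factorization_mul (pow_ne_zero _ hr'.ne_zero) (mul_ne_zero hm0 (fun e' => hrj (by rw [e']; exact dvd_zero r))),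
      Finsupp.add_apply, hr'.factorization_pow, Finsupp.single_eq_same, Nat.factorization_eq_zero_of_not_dvd, add_zero]
    rw [hr'.dvd_mul]
    exact not_or.2 ⟨hrm, hrj⟩
  have hR0 : Nat.card (zpowers (g ^ m)) = r ^ (Nat.card G).factorization r := by
    rw [Nat.card_zpowers, hord, hfac]
  let R0 : Sylow r G := Sylow.ofCard (zpowers (g ^ m)) hR0
  haveI : IsCyclic (R0 : Subgroup G) := by
    rw [show (R0 : Subgroup G) = zpowers (g ^ m) from Sylow.coe_ofCard _ _]; infer_instance
  exact isCyclic_of_surjective _ (R0.equiv R).surjective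

/-- An element of prime order cannot have few conjugates. -/
theorem card_le_class (h : Data G p q e o) {x : G} {r : ℕ} (hr : r.Prime) (hx : orderOf x = r) :
    Nat.card (centralizer ({x} : Set G)) ≤ q ∧ r = p ∨
      Nat.card (centralizer ({x} : Set G)) ≤ 2 * e ∧ r ∣ e ∨
      Nat.card (centralizer ({x} : Set G)) ≤ o ∧ r ∣ o := by
  have h2 := h.he2
  have h3 := h.ho3
  have h5 := h.hq5
  rcases h.prime_cases hr (hx ▸ orderOf_dvd_natCard x) with h' | h' | h'
  · subst h'; exact Or.inl ⟨Nat.le_of_dvd (by omega) (h.centralizer_p hx).2, rfl⟩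
  · exact Or.inr (Or.inl ⟨Nat.le_of_dvd (by omega) (h.centralizer_e hr h' hx), h'⟩)
  · exact Or.inr (Or.inr ⟨Nat.le_of_dvd (by omega) (h.centralizer_o hr h' hx), h'⟩)

/-- There is no non-trivial abelian normal subgroup. -/
theorem no_elementary_normal (h : Data G p q e o) (N : Subgroup G) [N.Normal] {r : ℕ} (hr : r.Prime)
    (hN : IsPGroup r N) (hexp : ∀ x ∈ N, x ^ r = 1) : N = ⊥ := by
  classical
  by_contra hne
  haveI := Fact.mk hr
  obtain ⟨x, hx, hx1'⟩ := (N.bot_or_exists_ne_one).resolve_left hne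
  have hxo : orderOf x = r := orderOf_eq_prime (hexp x hx) hx1'
  -- the class of `x` lies in `N`
  have hclass : (centralizer ({x} : Set G)).index ≤ Nat.card N - 1 := by
    have hstab : MulAction.stabilizer (ConjAct G) x = (centralizer ({x} : Set G)).comap ((ConjAct.ofConjAct : ConjAct G ≃* G) : ConjAct G →* G) := by
      ext g
      rw [MulAction.mem_stabilizer_iff, ConjAct.smul_def, mul_inv_eq_iff_eq_mul]
      exact mem_singleton_centralizer.symm
    have hidx := (MulAction.orbit (ConjAct G) x).toFinite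
    have h1 : (centralizer ({x} : Set G)).index = (MulAction.orbit (ConjAct G) x).ncard := by
      rw [← MulAction.index_stabilizer, hstab]
      exact (Subgroup.index_comap_of_surjective _ (f := ((ConjAct.ofConjAct : ConjAct G ≃* G) : ConjAct G →* G))
        (MulEquiv.surjective _)).symm
    rw [h1]
    have hsub : MulAction.orbit (ConjAct G) x ⊆ (N : Set G) \ {1} := by
      rintro y ⟨g, rfl⟩
      refine ⟨?_, fun hy => hx1' ?_⟩
      · show g • x ∈ N
        rw [ConjAct.smul_def]
        exact Subgroup.Normal.conj_mem ‹N.Normal› x hx _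
      · rw [Set.mem_singleton_iff] at hy
        have : g • x = g • (1 : G) := by rw [smul_one]; exact hy
        exact MulAction.injective g this
    refine (Set.ncard_le_ncard hsub (Set.toFinite _)).trans_eq ?_
    rw [Set.ncard_sdiff_singleton_of_mem N.one_mem, ← Nat.card_coe_set_eq]
    rfl
  have hG := (centralizer ({x} : Set G)).card_mul_index
  rw [h.card] at hG
  have h2 := h.he2
  have h3 := h.ho3
  have h5 := h.hq5
  have hs := h.hsum
  -- bound the subgroup
  have hNle : Nat.card N ≤ q ∧ r = p ∨ Nat.card N ≤ 4 ∧ r = 2 ∨ Nat.card N = r ∧ r ≠ 2 ∧ (r ∣ e ∨ r ∣ o) := by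
    obtain ⟨k, hk⟩ := IsPGroup.iff_card.1 hN
    rcases eq_or_ne r p with rfl | hrp
    · left
      refine ⟨Nat.le_of_dvd (by omega) (Nat.Coprime.dvd_of_dvd_mul_left ?_ (show Nat.card N ∣ 2 * e * o * q from
        (card_subgroup_dvd_card N).trans (dvd_of_eq (h.card.trans (by ring))))), rfl⟩
      rw [hk]
      refine Nat.Coprime.pow_left k (hr.coprime_iff_not_dvd.2 fun hd => ?_)
      rcases hr.dvd_mul.1 hd with h1 | h1
      · rcases hr.dvd_mul.1 h1 with h4 | h4
        · exact h.hp2 ((Nat.prime_dvd_prime_iff_eq hr Nat.prime_two).1 h4)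
        · exact h.hpe h4
      · exact h.hpo h1
    rcases eq_or_ne r 2 with rfl | hr2
    · right; left
      refine ⟨?_, rfl⟩
      -- a cyclic subgroup of order the two-part of `e`
      obtain ⟨g, hg⟩ := h.exE
      obtain ⟨a, b, hb, hab⟩ := Nat.exists_eq_pow_mul_and_not_dvd (show e ≠ 0 by omega) 2 (by norm_num)
      have hb0 : b ≠ 0 := fun e' => hb (e' ▸ dvd_zero 2)
      have hord : orderOf (g ^ b) = 2 ^ a := by
        rw [orderOf_pow_of_dvd hb0 (hg ▸ hab ▸ dvd_mul_left b _), hg, hab, Nat.mul_div_cancel _ (Nat.pos_of_ne_zero hb0)]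
      have hE2 : Nat.card (zpowers (g ^ b)) = 2 ^ a := by rw [Nat.card_zpowers, hord]
      haveI := Fact.mk Nat.prime_two
      obtain ⟨S, hS⟩ := (IsPGroup.of_card hE2).exists_le_sylow
      have hNS : N ≤ (S : Subgroup G) := by
        obtain ⟨S', hS'⟩ := hN.exists_le_sylow
        obtain ⟨c, rfl⟩ := MulAction.exists_smul_eq G S' S
        intro y hy
        rw [Sylow.coe_subgroup_smul, Subgroup.mem_pointwise_smul_iff_inv_smul_mem, ← map_inv,
          MulAut.smul_def, MulAut.conj_apply]
        exact hS' (Subgroup.Normal.conj_mem ‹N.Normal› y hy _)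
      have hidx : (zpowers (g ^ b)).relIndex (S : Subgroup G) ≤ 2 := by
        have h1 := relIndex_mul_relIndex ⊥ (zpowers (g ^ b)) (S : Subgroup G) bot_le hS
        rw [relIndex_bot_left, relIndex_bot_left, hE2, S.card_eq_multiplicity] at h1
        have h4 : (Nat.card G).factorization 2 = a + 1 := by
          have : Nat.card G = 2 ^ (a + 1) * (q * b * o) := by rw [h.card, hab]; ring
          have hnd : ¬ 2 ∣ q * b * o := by
            rw [Nat.prime_two.dvd_mul, Nat.prime_two.dvd_mul]
            have := Nat.prime_two.coprime_iff_not_dvd.1 h.two_coprime_q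
            have := h.ho
            tauto
          rw [this, Nat.factorization_mul (pow_ne_zero _ two_ne_zero) (fun e' => hnd (by rw [e']; exact dvd_zero 2)),
            Finsupp.add_apply, Nat.prime_two.factorization_pow, Finsupp.single_eq_same,
            Nat.factorization_eq_zero_of_not_dvd hnd, add_zero]
        rw [h4, pow_succ] at h1
        exact (Nat.eq_of_mul_eq_mul_left (pow_pos two_pos a) h1).le
      have hinter : Nat.card (zpowers (g ^ b) ⊓ N : Subgroup G) ≤ 2 := by
        haveI : IsCyclic (zpowers (g ^ b) ⊓ N : Subgroup G) :=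
          isCyclic_of_injective (Subgroup.inclusion inf_le_left) (Subgroup.inclusion_injective _)
        obtain ⟨w, hw⟩ := IsCyclic.exists_generator (α := (zpowers (g ^ b) ⊓ N : Subgroup G))
        rw [← orderOf_eq_card_of_forall_mem_zpowers hw, ← orderOf_coe]
        exact Nat.le_of_dvd two_pos (orderOf_dvd_of_pow_eq_one (hexp _ w.2.2))
      calc Nat.card N = Nat.card (zpowers (g ^ b) ⊓ N : Subgroup G) * (zpowers (g ^ b)).relIndex N := by
            rw [← relIndex_bot_left, ← relIndex_bot_left, ← inf_relIndex_right (zpowers (g ^ b)) N,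
              relIndex_mul_relIndex _ _ _ bot_le inf_le_right]
        _ ≤ 2 * 2 := by
            refine Nat.mul_le_mul hinter (le_trans ?_ hidx)
            have hd : (zpowers (g ^ b)).subgroupOf (S : Subgroup G) |>.FiniteIndex := inferInstance
            exact relIndex_le_of_le_right hNS hd.index_ne_zero
    · right; right
      have hrr : r ∣ e ∨ r ∣ o := (h.prime_cases hr (hxo ▸ orderOf_dvd_natCard x)).resolve_left hrp
      refine ⟨?_, hr2, hrr⟩
      obtain ⟨R, hR⟩ := hN.exists_le_sylow
      haveI := h.sylow_cyclic hr2 hrr R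
      haveI : IsCyclic N := isCyclic_of_injective (Subgroup.inclusion hR) (Subgroup.inclusion_injective hR)
      obtain ⟨w, hw⟩ := IsCyclic.exists_generator (α := N)
      have hw1 : (w : G) ≠ 1 := fun e' => hne ((eq_bot_iff_forall _).2 fun y hy => by
        obtain ⟨i, hi⟩ := hw ⟨y, hy⟩
        have := congrArg Subtype.val hi
        simpa [e'] using this.symm)
      rw [← orderOf_eq_card_of_forall_mem_zpowers hw, ← orderOf_coe]
      exact orderOf_eq_prime (hexp _ w.2) hw1
  -- compare
  have hI : 2 * q * e * o ≤ Nat.card (centralizer ({x} : Set G)) * (Nat.card N - 1) := by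
    rw [← hG]; exact Nat.mul_le_mul_left _ hclass
  have hrle : r ∣ e → r ≤ e := Nat.le_of_dvd (by omega)
  have hrle' : r ∣ o → r ≤ o := Nat.le_of_dvd (by omega)
  rcases h.card_le_class hr hxo with ⟨hC, hr'⟩ | ⟨hC, hr'⟩ | ⟨hC, hr'⟩
  · -- r = p
    rcases hNle with ⟨hb, -⟩ | ⟨-, rfl⟩ | ⟨-, -, hb | hb⟩
    · have := hI.trans (Nat.mul_le_mul hC (Nat.sub_le_sub_right hb 1))
      have hq : q * (q - 1) < 2 * q * e * o := by
        have h6 : q - 1 < 2 * e * o := by
          have := Nat.mul_le_mul (le_refl e) h3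
          have := Nat.mul_le_mul h2 (le_refl o)
          rw [mul_assoc]; omega
        calc q * (q - 1) < q * (2 * e * o) := Nat.mul_lt_mul_of_pos_left h6 (by omega)
          _ = _ := by ring
      omega
    · exact h.hp2 hr'.symm
    · exact h.hpe (hr' ▸ hb)
    · exact h.hpo (hr' ▸ hb)
  · rcases hNle with ⟨-, rfl⟩ | ⟨hb, -⟩ | ⟨hb, -, -⟩
    · exact h.hpe hr'
    · have := hI.trans (Nat.mul_le_mul hC (Nat.sub_le_sub_right hb 1))
      have hq : 2 * e * 3 < 2 * q * e * o := by
        calc 2 * e * 3 < 2 * e * (q * o) := Nat.mul_lt_mul_of_pos_left (by nlinarith) (by omega)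
          _ = _ := by ring
      omega
    · have := hI.trans (Nat.mul_le_mul hC (Nat.sub_le_sub_right (hb.le.trans (hrle hr')) 1))
      have hq : 2 * e * (e - 1) < 2 * q * e * o := by
        calc 2 * e * (e - 1) < 2 * e * (q * o) := Nat.mul_lt_mul_of_pos_left (by
              have : q ≤ q * o := Nat.le_mul_of_pos_right _ (by omega)
              omega) (by omega)
          _ = _ := by ring
      omega
  · rcases hNle with ⟨-, rfl⟩ | ⟨-, rfl⟩ | ⟨hb, -, -⟩
    · exact h.hpo hr'
    · exact h.ho hr'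
    · have := hI.trans (Nat.mul_le_mul hC (Nat.sub_le_sub_right (hb.le.trans (hrle' hr')) 1))
      have hq : o * (o - 1) < 2 * q * e * o := by
        calc o * (o - 1) < o * (2 * q * e) := Nat.mul_lt_mul_of_pos_left (by
              have : 2 * q ≤ 2 * q * e := Nat.le_mul_of_pos_right _ (by omega)
              omega) (by omega)
          _ = _ := by ring
      omega

/-- The centralizer of an element of odd prime order dividing `e` contains a cyclic subgroup of index at most two. -/
theorem exists_cyclic_centralizer (h : Data G p q e o) {x : G} {r : ℕ} (hr : r.Prime) (hr2 : r ≠ 2)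
    (hre : r ∣ e) (hx : orderOf x = r) :
    ∃ g : G, orderOf g = e ∧ zpowers g ≤ centralizer ({x} : Set G) ∧
      (zpowers g).relIndex (centralizer ({x} : Set G)) ∣ 2 := by
  haveI := Fact.mk hr
  obtain ⟨y, hy⟩ := h.exE
  obtain ⟨d, hd⟩ := hre
  have hd0 : d ≠ 0 := fun e' => by rw [e', mul_zero] at hd; have := h.he2; omega
  have hyd : orderOf (y ^ d) = r := by
    rw [orderOf_pow_of_dvd hd0 (hy ▸ hd ▸ dvd_mul_left d r), hy, hd, Nat.mul_div_cancel _ (Nat.pos_of_ne_zero hd0)]
  obtain ⟨R, hR⟩ := (IsPGroup.of_card (n := 1) (show Nat.card (zpowers (y ^ d)) = r ^ 1 by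
    rw [Nat.card_zpowers, hyd, pow_one])).exists_le_sylow
  obtain ⟨R', hR'⟩ := (IsPGroup.of_card (n := 1) (show Nat.card (zpowers x) = r ^ 1 by
    rw [Nat.card_zpowers, hx, pow_one])).exists_le_sylow
  obtain ⟨c, hc⟩ := MulAction.exists_smul_eq G R R'
  haveI := h.sylow_cyclic hr2 (Or.inl ⟨d, hd⟩) R'
  have hcy : MulAut.conj c (y ^ d) ∈ (R' : Subgroup G) := by
    rw [← hc, Sylow.coe_subgroup_smul]
    exact Subgroup.smul_mem_pointwise_smul (y ^ d) (MulAut.conj c) _ (hR (mem_zpowers _))
  have hxR : x ∈ (R' : Subgroup G) := hR' (mem_zpowers x)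
  have hxy : x ∈ zpowers (MulAut.conj c (y ^ d)) := by
    have h1 := mem_zpowers_of_orderOf_eq
      (g := (⟨_, hcy⟩ : ↥(R' : Subgroup G))) (x := ⟨x, hxR⟩) (by rw [orderOf_mk, orderOf_mk, MulEquiv.orderOf_eq, hyd, hx])
    obtain ⟨i, hi⟩ := h1
    exact ⟨i, congrArg Subtype.val hi⟩
  refine ⟨MulAut.conj c y, (MulEquiv.orderOf_eq _ _).trans hy, ?_, ?_⟩
  · refine zpowers_le.2 (mem_singleton_centralizer.2 ?_)
    obtain ⟨i, rfl⟩ := hxy
    simp only [map_pow]
    exact (((Commute.refl _).pow_right d).zpow_right i).eq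
  · have hle : zpowers (MulAut.conj c y) ≤ centralizer ({x} : Set G) := by
      refine zpowers_le.2 (mem_singleton_centralizer.2 ?_)
      obtain ⟨i, rfl⟩ := hxy
      simp only [map_pow]
      exact (((Commute.refl _).pow_right d).zpow_right i).eq
    have h1 := relIndex_mul_relIndex ⊥ (zpowers (MulAut.conj c y)) (centralizer ({x} : Set G)) bot_le hle
    rw [relIndex_bot_left, relIndex_bot_left, Nat.card_zpowers, MulEquiv.orderOf_eq, hy] at h1
    have h2 := h.centralizer_e hr ⟨d, hd⟩ hx
    rw [← h1, mul_comm 2 e] at h2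
    exact Nat.dvd_of_mul_dvd_mul_left (by have := h.he2; omega) h2

/-- Subgroups of odd order are solvable. -/
theorem solvable_of_odd (h : Data G p q e o) (H : Subgroup G) (hH : Odd (Nat.card H)) : Group.IsSolvable H := by
  refine Cfsg.Agent.S0183.result hH fun g hg => ?_
  haveI := Fact.mk h.hp
  obtain ⟨r, hr, hrd⟩ := Nat.exists_prime_and_dvd (fun e' => hg (orderOf_eq_one_iff.1 e'))
  obtain ⟨d, hd⟩ := hrd
  have hd0 : d ≠ 0 := fun e' => by rw [e', mul_zero] at hd; exact (orderOf_pos g).ne' hd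
  set x := g ^ d with hx
  have hxo : orderOf x = r := by
    rw [hx, orderOf_pow_of_dvd hd0 (hd ▸ dvd_mul_left d r), hd, Nat.mul_div_cancel _ (Nat.pos_of_ne_zero hd0)]
  have hle : centralizer ({g} : Set H) ≤ centralizer ({x} : Set H) := by
    intro c hc
    rw [mem_centralizer_singleton_iff] at hc ⊢
    exact (Commute.pow_right hc d).eq
  haveI : Group.IsNilpotent (centralizer ({x} : Set H)) := by
    have hxG : orderOf (x : G) = r := by rw [orderOf_coe, hxo]
    let f : centralizer ({x} : Set H) →* centralizer ({(x : G)} : Set G) :=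
      { toFun := fun c => ⟨((c : H) : G), mem_singleton_centralizer.2 (congrArg Subtype.val
          (mem_centralizer_singleton_iff.1 c.2))⟩
        map_one' := rfl
        map_mul' := fun _ _ => rfl }
    have hf : Function.Injective f := fun a b hab =>
      Subtype.ext (Subtype.ext (congrArg (fun z : centralizer ({(x : G)} : Set G) => (z : G)) hab))
    have hr2 : r ≠ 2 := fun e' => by
      have : 2 ∣ Nat.card H := e' ▸ hxo ▸ orderOf_dvd_natCard x
      exact (Nat.not_even_iff_odd.2 hH) (even_iff_two_dvd.2 this)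
    rcases h.prime_cases hr (hxG ▸ orderOf_dvd_natCard _) with h' | h' | h'
    · subst h'
      exact ((h.centralizer_p hxG).1.of_injective f hf).isNilpotent
    · obtain ⟨w, -, hw, hwi⟩ := h.exists_cyclic_centralizer hr hr2 h' hxG
      have hodd : ∀ c : centralizer ({x} : Set H), ((f c : centralizer ({(x : G)} : Set G)) : G) ∈ zpowers w := by
        intro c
        haveI hn : ((zpowers w).subgroupOf (centralizer ({(x : G)} : Set G))).Normal := by
          rcases (Nat.dvd_prime Nat.prime_two).1 hwi with e1 | e1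
          · rw [Subgroup.index_eq_one.1 (show ((zpowers w).subgroupOf (centralizer ({(x : G)} : Set G))).index = 1 from e1)]; infer_instance
          · exact normal_of_index_eq_two e1
        have hc2 : Odd (orderOf (f c : centralizer ({(x : G)} : Set G))) := by
          rw [orderOf_injective f hf, ← orderOf_coe]
          exact Odd.of_dvd_nat hH (_root_.orderOf_dvd_natCard _)
        have h1 : orderOf (QuotientGroup.mk' ((zpowers w).subgroupOf (centralizer ({(x : G)} : Set G))) (f c)) ∣ 2 :=
          (_root_.orderOf_dvd_natCard _).trans (by rw [← Subgroup.index_eq_card]; exact hwi)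
        have h2 : orderOf (QuotientGroup.mk' ((zpowers w).subgroupOf (centralizer ({(x : G)} : Set G))) (f c)) = 1 :=
          Nat.eq_one_of_dvd_coprimes (Nat.coprime_two_left.2 hc2) h1 (orderOf_map_dvd _ _)
        exact mem_subgroupOf.1 ((QuotientGroup.eq_one_iff _).1 (orderOf_eq_one_iff.1 h2))
      let f' : centralizer ({x} : Set H) →* zpowers w :=
        { toFun := fun c => ⟨_, hodd c⟩
          map_one' := rfl
          map_mul' := fun _ _ => rfl }
      haveI : IsCyclic (centralizer ({x} : Set H)) := isCyclic_of_injective f' fun a b hab =>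
        Subtype.ext (Subtype.ext (congrArg (fun z : zpowers w => (z : G)) hab))
      letI := IsCyclic.commGroup (α := centralizer ({x} : Set H))
      infer_instance
    · -- a cyclic subgroup of order `o`
      haveI := Fact.mk hr
      obtain ⟨z, hz⟩ := h.exO
      obtain ⟨j, hj⟩ := h'
      have hj0 : j ≠ 0 := fun e' => by rw [e', mul_zero] at hj; have := h.ho3; omega
      have hzj : orderOf (z ^ j) = r := by
        rw [orderOf_pow_of_dvd hj0 (hz ▸ hj ▸ dvd_mul_left j r), hz, hj, Nat.mul_div_cancel _ (Nat.pos_of_ne_zero hj0)]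
      obtain ⟨R, hR⟩ := (IsPGroup.of_card (n := 1) (show Nat.card (zpowers (z ^ j)) = r ^ 1 by
        rw [Nat.card_zpowers, hzj, pow_one])).exists_le_sylow
      obtain ⟨R', hR'⟩ := (IsPGroup.of_card (n := 1) (show Nat.card (zpowers (x : G)) = r ^ 1 by
        rw [Nat.card_zpowers, hxG, pow_one])).exists_le_sylow
      obtain ⟨c, hc⟩ := MulAction.exists_smul_eq G R R'
      haveI := h.sylow_cyclic hr2 (Or.inr ⟨j, hj⟩) R'
      have hcz : MulAut.conj c (z ^ j) ∈ (R' : Subgroup G) := by
        rw [← hc, Sylow.coe_subgroup_smul]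
        exact Subgroup.smul_mem_pointwise_smul (z ^ j) (MulAut.conj c) _ (hR (mem_zpowers _))
      obtain ⟨i, hi⟩ := mem_zpowers_of_orderOf_eq
        (g := (⟨_, hcz⟩ : ↥(R' : Subgroup G))) (x := ⟨(x : G), hR' (mem_zpowers _)⟩)
        (by rw [orderOf_mk, orderOf_mk, MulEquiv.orderOf_eq, hzj, hxG])
      have hi' : MulAut.conj c (z ^ j) ^ i = (x : G) := congrArg Subtype.val hi
      have hle' : zpowers (MulAut.conj c z) ≤ centralizer ({(x : G)} : Set G) := by
        refine zpowers_le.2 (mem_singleton_centralizer.2 ?_)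
        rw [← hi', map_pow]
        exact (((Commute.refl _).pow_right j).zpow_right i).eq
      have heq : zpowers (MulAut.conj c z) = centralizer ({(x : G)} : Set G) := by
        refine eq_of_le_of_card_ge hle' ?_
        rw [Nat.card_zpowers, MulEquiv.orderOf_eq, hz]
        exact Nat.le_of_dvd (by have := h.ho3; omega) (h.centralizer_o hr ⟨j, hj⟩ hxG)
      haveI : IsCyclic (centralizer ({(x : G)} : Set G)) := heq ▸ inferInstance
      haveI : IsCyclic (centralizer ({x} : Set H)) := isCyclic_of_injective f hf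
      letI := IsCyclic.commGroup (α := centralizer ({x} : Set H))
      infer_instance
  exact Group.nilpotent_of_mulEquiv (Subgroup.subgroupOfEquivOfLe hle)

end Data

end Cfsg.Lib.Recog.OrderSpecPSL
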