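import Cfsg.Agent.Lib.Recog.OrderSpecPSL.Psl

/-!
# Groups with the order and the element orders of `PSL(2, q)`, `q` odd: the group is simple
-/

set_option autoImplicit false
set_option linter.style.haveILetI false

namespace Cfsg.Lib.Recog.OrderSpecPSL

open Subgroup

universe u

variable {G : Type u} [Group G] [Finite G] {p q e o : ℕ}

/-- The automorphism group of a four group has order dividing six. -/
theorem card_mulAut_dvd_six {V : Type*} [Group V] [Finite V] (h : Nat.card V = 4) : Nat.card (MulAut V) ∣ 6 := by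
  classical
  haveI := Fintype.ofFinite V
  let X := {x : V // x ≠ 1}
  have hX : Nat.card X = 3 := by
    rw [Nat.card_eq_fintype_card, Fintype.card_subtype_compl, Fintype.card_subtype_eq,
      ← Nat.card_eq_fintype_card, h]
  let f : MulAut V →* Equiv.Perm X :=
    { toFun := fun σ => σ.toEquiv.subtypeEquiv fun x => by
        constructor
        · intro hx e'; exact hx (σ.map_eq_one_iff.1 e')
        · intro hx e'; exact hx (σ.map_eq_one_iff.2 e')
      map_one' := by ext x; rfl
      map_mul' := fun σ τ => by ext x; rfl }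
  have hf : Function.Injective f := by
    intro σ τ h'
    refine MulEquiv.ext fun x => ?_
    by_cases hx : x = 1
    · rw [hx, map_one, map_one]
    · exact congrArg Subtype.val (congrArg (fun π => π ⟨x, hx⟩) h')
  refine (card_dvd_of_injective f hf).trans ?_
  rw [Nat.card_perm, hX]
  rfl

namespace Cfg

variable {N : Subgroup G} (c : Cfg G p q e o N)

include c in
theorem q_dvd : q ∣ Nat.card N := by
  classical
  haveI := Fact.mk Nat.prime_two
  haveI := c.normal
  haveI := c.simple
  haveI := Fact.mk c.data.hp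
  obtain ⟨a, s, haE, hsT, hsE, hs2, hinv, hgen, hcl, ha2⟩ := c.exists_dihedral
  obtain ⟨e1⟩ := Cfsg.Lib.TwoGroup.equiv_dihedral hs2 hinv fun h => hsE ((zpowers_le.2 haE) h)
  have eT : c.T ≃* DihedralGroup (orderOf a) := (MulEquiv.subgroupCongr hcl.symm).trans e1
  have hp3 : 3 ≤ p := by
    have := c.data.hp.two_le
    have := c.data.hp2
    omega
  obtain ⟨P, hP⟩ := c.T_sylow
  have hPm : (P : Subgroup N).map N.subtype = c.T := by
    rw [hP, subgroupOf_map_subtype, inf_eq_left]; exact inf_le_right
  set NG := normalizer (c.T : Set G) with hNG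
  have htop : NG ⊔ N = ⊤ := by
    have := Sylow.normalizer_sup_eq_top P
    rwa [hPm] at this
  have hidx : N.index = N.relIndex NG := by
    rw [← relIndex_top_right, ← htop, relIndex_sup_right]
  -- the centralizer of `T` has order prime to `p`
  have hTt : centralizer (c.T : Set G) ≤ centralizer ({c.t} : Set G) := fun x hx =>
    mem_singleton_centralizer.2 ((mem_centralizer_iff.1 hx c.t c.t_mem_T).symm)
  have hpC : ¬ p ∣ Nat.card (centralizer (c.T : Set G)) := fun h => by
    have h1 := h.trans (card_dvd_of_le hTt)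
    rw [c.cardC] at h1
    rcases c.data.hp.dvd_mul.1 h1 with h2 | h2
    · have := Nat.le_of_dvd two_pos h2; omega
    · exact c.data.hpe h2
  set K := (normalizerMonoidHom c.T).ker with hK
  have hKeq : K = (centralizer (c.T : Set G)).subgroupOf NG := normalizerMonoidHom_ker _
  have hKcard : Nat.card K = Nat.card (centralizer (c.T : Set G)) := by
    rw [hKeq, Nat.card_congr (subgroupOfEquivOfLe (centralizer_le_normalizer _)).toEquiv]
  have hKidx : K.index ∣ Nat.card (MulAut c.T) := by
    rw [Subgroup.index_ker]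
    exact card_subgroup_dvd_card _
  have hpidx : ¬ p ∣ N.index := by
    intro hp
    rw [hidx] at hp
    have hNG : p ∣ Nat.card NG := hp.trans (relIndex_dvd_card _ _)
    rw [← K.card_mul_index, hKcard] at hNG
    have hpK : p ∣ K.index := (c.data.hp.dvd_mul.1 hNG).resolve_left hpC
    by_cases h3 : 3 ≤ orderOf a
    · obtain ⟨k, hk⟩ := IsPGroup.iff_card.1 (Cfsg.Lib.DihedralAut.isPGroup_mulAut_dihedral c.isPGroup_T h3 eT)
      have := (Nat.prime_dvd_prime_iff_eq c.data.hp Nat.prime_two).1
        (c.data.hp.dvd_of_dvd_pow (hk ▸ hpK.trans hKidx))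
      exact c.data.hp2 this
    · have hcard4 : Nat.card c.T = 4 := by
        rw [Nat.card_congr eT.toEquiv, DihedralGroup.nat_card]; omega
      have h6 : K.index ∣ 6 := hKidx.trans (card_mulAut_dvd_six hcard4)
      have hp6 : p = 3 := by
        have h1 : p ∣ 2 * 3 := hpK.trans h6
        rcases c.data.hp.dvd_mul.1 h1 with h2 | h2
        · have := Nat.le_of_dvd two_pos h2; omega
        · exact (Nat.prime_dvd_prime_iff_eq c.data.hp Nat.prime_three).1 h2
      -- `N` induces an element of order three
      have hPn : ¬ normalizer ((P : Subgroup N) : Set N) ≤ centralizer ((P : Subgroup N) : Set N) := by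
        intro hle
        have hcomp := MonoidHom.ker_transferSylow_isComplement' P hle
        rcases IsSimpleGroup.eq_bot_or_eq_top_of_normal _ (MonoidHom.normal_ker (MonoidHom.transferSylow P hle)) with h1 | h1
        · rw [h1, isComplement'_bot_left] at hcomp
          refine c.not_solvable ?_
          haveI := P.isPGroup'.isNilpotent
          haveI : Group.IsNilpotent N := Group.nilpotent_of_mulEquiv ((MulEquiv.subgroupCongr hcomp).trans topEquiv)
          infer_instance
        · rw [h1, isComplement'_top_left] at hcomp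
          exact P.ne_bot_of_dvd_card c.even hcomp
      obtain ⟨n, hn, hnc⟩ := SetLike.not_le_iff_exists.1 hPn
      have hTcomm : IsMulCommutative (P : Subgroup N) := by
        have h1 : Nat.card (P : Subgroup N) = 2 ^ 2 := by
          rw [hP, Nat.card_congr (subgroupOfEquivOfLe (show c.T ≤ N from inf_le_right)).toEquiv, hcard4]; norm_num
        exact ⟨⟨fun x y => IsPGroup.commutative_of_card_eq_prime_sq h1 x y⟩⟩
      haveI := hTcomm
      have hdisj : ¬ 2 ∣ (centralizer ((P : Subgroup N) : Set N)).relIndex (normalizer ((P : Subgroup N) : Set N)) := fun h2 =>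
        P.not_dvd_index (h2.trans ((relIndex_dvd_of_le_left _ P.le_centralizer).trans
          (relIndex_dvd_index_of_le le_normalizer)))
      obtain ⟨φ, hφ, hφ'⟩ : ∃ φ : ↥(normalizer ((P : Subgroup N) : Set N)) →* ↥NG ⧸ K,
          φ.ker = (centralizer ((P : Subgroup N) : Set N)).subgroupOf (normalizer ((P : Subgroup N) : Set N)) ∧
          ∀ m, ∃ y : ↥NG, (y : G) ∈ N ∧ QuotientGroup.mk' K y = φ m := by
        have hmem : ∀ m : ↥(normalizer ((P : Subgroup N) : Set N)), ((m : N) : G) ∈ NG := fun m => by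
          refine mem_normalizer_iff.2 fun x => ?_
          rw [← hPm]
          constructor
          · rintro ⟨y, hy, rfl⟩
            exact ⟨(m : N) * y * (m : N)⁻¹, (mem_normalizer_iff.1 m.2 y).1 hy, rfl⟩
          · rintro ⟨y, hy, hy'⟩
            refine ⟨(m : N)⁻¹ * y * (m : N), ?_, ?_⟩
            · have := (mem_normalizer_iff.1 (inv_mem m.2) y).1 hy
              rw [inv_inv] at this
              exact this
            · show (((m : N) : G))⁻¹ * (y : G) * ((m : N) : G) = x
              rw [show (y : G) = ((m : N) : G) * x * ((m : N) : G)⁻¹ from hy']; group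
        let ι : ↥(normalizer ((P : Subgroup N) : Set N)) →* ↥NG :=
          { toFun := fun m => ⟨((m : N) : G), hmem m⟩
            map_one' := rfl
            map_mul' := fun _ _ => rfl }
        refine ⟨(QuotientGroup.mk' K).comp ι, ?_, fun m => ⟨ι m, (m : N).2, rfl⟩⟩
        ext m
        rw [MonoidHom.mem_ker, MonoidHom.comp_apply, QuotientGroup.mk'_apply, QuotientGroup.eq_one_iff, hKeq,
          mem_subgroupOf, mem_subgroupOf, mem_centralizer_iff, mem_centralizer_iff]
        constructor
        · intro h y hy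
          exact Subtype.ext (h (y : G) (hPm ▸ ⟨y, hy, rfl⟩))
        · intro h x hx
          rw [SetLike.mem_coe, ← hPm] at hx
          obtain ⟨y, hy, rfl⟩ := hx
          exact congrArg Subtype.val (h y hy)
      have hr1 : Nat.card φ.range = (centralizer ((P : Subgroup N) : Set N)).relIndex (normalizer ((P : Subgroup N) : Set N)) := by
        rw [← Subgroup.index_ker, hφ]
        rfl
      have hr2 : Nat.card φ.range ∣ K.index := by
        rw [Subgroup.index_eq_card]; exact card_subgroup_dvd_card _
      have hr3 : Nat.card φ.range ≠ 1 := by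
        rw [hr1]; exact fun e' => hnc ((relIndex_eq_one.1 e') hn)
      have h3r : 3 ∣ Nat.card φ.range := by
        have hd : Nat.card φ.range ∣ 6 := hr2.trans h6
        have hle := Nat.le_of_dvd (by norm_num) hd
        have hpos : 0 < Nat.card φ.range := Nat.card_pos
        rw [← hr1] at hdisj
        interval_cases h : Nat.card φ.range <;> omega
      -- the image of `N` takes all of the three-part
      have hsub : φ.range ≤ (N.subgroupOf NG).map (QuotientGroup.mk' K) := by
        rintro x ⟨m, rfl⟩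
        obtain ⟨y, hy, hφy⟩ := hφ' m
        exact ⟨y, mem_subgroupOf.2 hy, hφy⟩
      have h3N : 3 ∣ Nat.card ↥(N.subgroupOf NG) :=
        h3r.trans ((card_dvd_of_le hsub).trans (card_map_dvd _ _))
      have hmul : Nat.card ↥(N.subgroupOf NG) * N.relIndex NG = Nat.card K * K.index := by
        rw [K.card_mul_index]; exact (N.subgroupOf NG).card_mul_index
      subst hp6
      have h9 : 3 * 3 ∣ Nat.card (centralizer (c.T : Set G)) * K.index := by
        rw [← hKcard, ← hmul]; exact mul_dvd_mul h3N hp
      have hcop : Nat.Coprime (3 * 3) (Nat.card (centralizer (c.T : Set G))) :=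
        Nat.Coprime.mul_left ((c.data.hp.coprime_iff_not_dvd).2 hpC) ((c.data.hp.coprime_iff_not_dvd).2 hpC)
      have := (hcop.dvd_of_dvd_mul_left h9).trans h6
      norm_num at this
  have h1 : q ∣ Nat.card N * N.index := by
    rw [N.card_mul_index, c.data.card]; exact ⟨2 * e * o, by ring⟩
  obtain ⟨m, -, hm⟩ := c.data.hpq
  refine Nat.Coprime.dvd_of_dvd_mul_right ?_ h1
  rw [hm]
  exact ((c.data.hp.coprime_iff_not_dvd).2 hpidx).pow_left m

end Cfg

/-- A group with the order and the element orders of `PSL(2, q)`, `q ≥ 5` odd, is `PSL(2, q)`. -/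
theorem Data.exists_equiv (h : Data G p q e o) :
    ∃ (K : Type) (_ : Field K) (_ : Fintype K), Fintype.card K = q ∧
      Nonempty (G ≃* Matrix.ProjectiveSpecialLinearGroup (Fin 2) K) := by
  classical
  obtain ⟨N, hn, hs, h2⟩ := h.exists_simple_normal
  obtain ⟨c⟩ := h.exists_cfg hn hs h2
  obtain ⟨K, iF, iFin, hodd, ⟨φ⟩⟩ := c.exists_psl
  set Q := Fintype.card K with hQ
  have hcardN : 2 * Nat.card N = Q * (Q ^ 2 - 1) := by
    have hc := Cfsg.Lib.Linear.Two.card_PSL_two (F := K)
    have hQ2 : 2 ∣ Q - 1 := by obtain ⟨j, hj⟩ := hodd; exact ⟨j, by omega⟩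
    rw [Nat.gcd_eq_left hQ2, ← Nat.card_congr φ.toEquiv] at hc
    exact hc
  have hqN := c.q_dvd
  have hq5 := h.hq5
  have hQ1 : 2 ≤ Q := Fintype.one_lt_card
  have hNG : Nat.card N ∣ Nat.card G := card_subgroup_dvd_card N
  obtain ⟨m, hm, hqm⟩ := h.hpq
  have hp2' := h.hp.two_le
  have hp3 : 3 ≤ p := by have := h.hp2; omega
  have hpN : p ∣ Nat.card N := (hqm ▸ dvd_pow_self p hm.ne').trans hqN
  -- the field has more than three elements
  have hQ5 : 4 ≤ Q := by
    by_contra hlt
    have hQ3 : Q = 3 := by obtain ⟨j, hj⟩ := hodd; omega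
    rw [hQ3] at hcardN
    have hN12 : Nat.card N = 12 := by norm_num at hcardN; omega
    rw [hN12] at hqN
    have := Nat.le_of_dvd (by norm_num) hqN
    obtain ⟨j, hj⟩ : Odd q := Nat.coprime_two_left.1 h.two_coprime_q
    interval_cases q <;> omega
  obtain ⟨p₁, hp₁⟩ := CharP.exists K
  haveI := hp₁
  have hp₁p : p₁.Prime := CharP.char_is_prime K p₁
  haveI := Fact.mk hp₁p
  obtain ⟨k, -, hQk⟩ := FiniteField.card K p₁
  rw [← hQ] at hQk
  have hspec := Cfsg.Lib.Spec.psl_two_spectrum (F := K) p₁ hQ5
  rw [← hQ] at hspec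
  have hQ2 : 2 ∣ Q - 1 := by obtain ⟨j, hj⟩ := hodd; exact ⟨j, by omega⟩
  rw [Nat.gcd_eq_left hQ2] at hspec
  -- element orders of `N` occur in `G`
  have hord : ∀ d : ℕ, d ∣ p₁ ∨ d ∣ (Q - 1) / 2 ∨ d ∣ (Q + 1) / 2 → ∃ g : G, g ∈ N ∧ orderOf g = d := by
    intro d hd
    obtain ⟨x, hx⟩ : d ∈ Set.range (orderOf : Matrix.ProjectiveSpecialLinearGroup (Fin 2) K → ℕ) := by
      rw [hspec]; exact hd
    exact ⟨(φ.symm x : N), SetLike.coe_mem _, by rw [orderOf_coe, MulEquiv.orderOf_eq, hx]⟩
  have hordN : ∀ g : N, orderOf g ∣ p₁ ∨ orderOf g ∣ (Q - 1) / 2 ∨ orderOf g ∣ (Q + 1) / 2 := fun g => by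
    have : orderOf (φ g) ∈ Set.range (orderOf : Matrix.ProjectiveSpecialLinearGroup (Fin 2) K → ℕ) := ⟨_, rfl⟩
    rw [hspec, MulEquiv.orderOf_eq] at this
    exact this
  have hQeq : Q = q := by
    by_cases hpp : p₁ = p
    · subst hpp
      have hQq : q.Coprime (Q ^ 2 - 1) := by
        rw [hqm]
        refine (h.hp.coprime_iff_not_dvd.2 fun hd => ?_).pow_left m
        have h1 : p₁ ∣ Q ^ 2 := (hQk ▸ dvd_pow_self p₁ k.ne_zero).trans (dvd_pow_self Q two_ne_zero)
        have h2 := Nat.dvd_sub h1 hd
        have : 1 ≤ Q ^ 2 := Nat.one_le_pow _ _ (by omega)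
        rw [show Q ^ 2 - (Q ^ 2 - 1) = 1 by omega] at h2
        exact h.hp.ne_one (Nat.dvd_one.1 h2)
      have h1 : q ∣ Q := hQq.dvd_of_dvd_mul_right (hcardN ▸ hqN.mul_left 2)
      have h2 : Q ∣ q := by
        refine Nat.Coprime.dvd_of_dvd_mul_left (m := 2 * e * o) ?_ ?_
        · rw [hQk]
          refine Nat.Coprime.pow_left _ (h.hp.coprime_iff_not_dvd.2 fun hd => ?_)
          rcases h.hp.dvd_mul.1 hd with h3 | h3
          · rcases h.hp.dvd_mul.1 h3 with h4 | h4
            · have := Nat.le_of_dvd two_pos h4; omega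
            · exact h.hpe h4
          · exact h.hpo h3
        · have h3 : Q ∣ 2 * Nat.card N := hcardN ▸ dvd_mul_right _ _
          have h4 : Q ∣ Nat.card N := (Nat.Coprime.dvd_of_dvd_mul_left (Nat.coprime_two_right.2 hodd) h3)
          rw [show 2 * e * o * q = Nat.card G by rw [h.card]; ring]
          exact h4.trans hNG
      exact Nat.dvd_antisymm h2 h1
    · exfalso
      have hpQ : ¬ p ∣ Q := fun hd =>
        hpp ((Nat.prime_dvd_prime_iff_eq h.hp hp₁p).1 (h.hp.dvd_of_dvd_pow (hQk ▸ hd))).symm
      have hqQ : q.Coprime Q := by rw [hqm]; exact (h.hp.coprime_iff_not_dvd.2 hpQ).pow_left m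
      have hdiv : q ∣ Q ^ 2 - 1 := hqQ.dvd_of_dvd_mul_left (hcardN ▸ hqN.mul_left 2)
      have hfac : Q ^ 2 - 1 = (Q + 1) * (Q - 1) := by
        rw [← Nat.sq_sub_sq, one_pow]
      have hqh : q ∣ (Q - 1) / 2 ∨ q ∣ (Q + 1) / 2 := by
        have h2q : q.Coprime 2 := h.two_coprime_q.symm
        have hnot : ¬ (p ∣ Q + 1 ∧ p ∣ Q - 1) := fun ⟨h1, h3⟩ => by
          have := Nat.dvd_sub h1 h3
          rw [show Q + 1 - (Q - 1) = 2 by omega] at this
          have := Nat.le_of_dvd two_pos this
          omega
        have hsplit : q ∣ Q + 1 ∨ q ∣ Q - 1 := by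
          rw [hfac] at hdiv
          by_cases h1 : p ∣ Q + 1
          · left
            refine Nat.Coprime.dvd_of_dvd_mul_right ?_ hdiv
            rw [hqm]; exact (h.hp.coprime_iff_not_dvd.2 fun h3 => hnot ⟨h1, h3⟩).pow_left m
          · right
            refine Nat.Coprime.dvd_of_dvd_mul_left ?_ hdiv
            rw [hqm]; exact (h.hp.coprime_iff_not_dvd.2 h1).pow_left m
        rcases hsplit with h1 | h1
        · right
          refine h2q.dvd_of_dvd_mul_left ?_
          rwa [Nat.mul_div_cancel' (show 2 ∣ Q + 1 by omega)]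
        · left
          refine h2q.dvd_of_dvd_mul_left ?_
          rwa [Nat.mul_div_cancel' hQ2]
      obtain ⟨d, hd, hd'⟩ : ∃ d, q ∣ d ∧ (d = (Q - 1) / 2 ∨ d = (Q + 1) / 2) := by
        rcases hqh with h1 | h1
        · exact ⟨_, h1, Or.inl rfl⟩
        · exact ⟨_, h1, Or.inr rfl⟩
      obtain ⟨g, -, hg⟩ := hord d (by rcases hd' with e1 | e1 <;> simp [e1])
      have hdp : d ∣ p := by
        have hpd : p ∣ d := (hqm ▸ dvd_pow_self p hm.ne').trans hd
        rcases h.spec g with h1 | h1 | h1 <;> rw [hg] at h1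
        · exact h1
        · exact absurd (hpd.trans h1) h.hpe
        · exact absurd (hpd.trans h1) h.hpo
      have hd0 : 0 < d := Nat.pos_of_dvd_of_pos hdp (by omega)
      have hle1 : q ≤ d := Nat.le_of_dvd hd0 hd
      -- the characteristic of `K` divides `e` or `o`
      have hp₁G : p₁ ∣ Nat.card G := by
        obtain ⟨g₁, -, hg₁⟩ := hord p₁ (Or.inl dvd_rfl)
        exact hg₁ ▸ _root_.orderOf_dvd_natCard g₁
      have hp₁2 : p₁ ≠ 2 := fun e' => by
        subst e'
        have : 2 ∣ Q := hQk ▸ dvd_pow_self 2 k.ne_zero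
        obtain ⟨j, hj⟩ := hodd; omega
      have hcase : p₁ ∣ e ∨ p₁ ∣ o := (h.prime_cases hp₁p hp₁G).resolve_left hpp
      -- so its Sylow subgroup is cyclic and `Q = p₁`
      have hQp : Q ≤ p₁ := by
        have hQN : p₁ ^ (k : ℕ) ∣ Nat.card N := by
          rw [← hQk]
          exact Nat.Coprime.dvd_of_dvd_mul_left (Nat.coprime_two_right.2 hodd) (hcardN ▸ dvd_mul_right _ _)
        obtain ⟨L, hL⟩ := Sylow.exists_subgroup_card_pow_prime p₁ hQN
        obtain ⟨R, hR⟩ := ((IsPGroup.of_card hL).map N.subtype).exists_le_sylow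
        haveI := h.sylow_cyclic hp₁2 hcase R
        haveI : IsCyclic ↥(L.map N.subtype) := isCyclic_of_injective (inclusion hR) (inclusion_injective hR)
        haveI : IsCyclic ↥L := isCyclic_of_surjective _ (equivMapOfInjective L N.subtype N.subtype_injective).symm.surjective
        obtain ⟨w, hw⟩ := IsCyclic.exists_generator (α := L)
        have hwo : orderOf (w : N) = Q := by
          rw [orderOf_coe, orderOf_eq_card_of_forall_mem_zpowers hw, hL, hQk]
        have h4 := hordN (w : N)
        rw [hwo] at h4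
        rcases h4 with h5 | h5 | h5
        · exact Nat.le_of_dvd hp₁p.pos h5
        · have := Nat.le_of_dvd (by omega) h5; omega
        · have := Nat.le_of_dvd (by omega) h5; omega
      have hp₁le : p₁ ≤ e ∨ p₁ ≤ o := by
        rcases hcase with h1 | h1
        · exact Or.inl (Nat.le_of_dvd (by have := h.he2; omega) h1)
        · exact Or.inr (Nat.le_of_dvd (by have := h.ho3; omega) h1)
      have := h.heo
      have := h.hoe
      have := h.hsum
      rcases hd' with e1 | e1 <;> rcases hp₁le with e2 | e2 <;> omega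
  refine ⟨K, iF, iFin, hQeq, ?_⟩
  have htop : N = ⊤ := by
    refine eq_top_of_card_eq N ?_
    have hcG := h.card
    have hsum := h.hsum
    have h1 : 2 * Nat.card N = 2 * Nat.card G := by
      rw [hcardN, hQeq, hcG]
      rcases Nat.lt_or_ge e o with hlt | hge
      · have ho : o = e + 1 := by have := h.hoe; omega
        have : q = 2 * e + 1 := by omega
        rw [this, ho, show (2 * e + 1) ^ 2 - 1 = 4 * e * (e + 1) by
          rw [show (2 * e + 1) ^ 2 = 4 * e * (e + 1) + 1 by ring, Nat.add_sub_cancel]]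
        ring
      · have hne : e ≠ o := fun e' => h.ho (e' ▸ h.he)
        have he : e = o + 1 := by have := h.heo; omega
        have : q = 2 * o + 1 := by omega
        rw [this, he, show (2 * o + 1) ^ 2 - 1 = 4 * o * (o + 1) by
          rw [show (2 * o + 1) ^ 2 = 4 * o * (o + 1) + 1 by ring, Nat.add_sub_cancel]]
        ring
    omega
  exact ⟨(topEquiv.symm.trans (MulEquiv.subgroupCongr htop.symm)).trans φ⟩

end Cfsg.Lib.Recog.OrderSpecPSL
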