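import Cfsg.Agent.Lib.Recog.OrderSpecPSL.Simple

/-!
# Groups with the order and the element orders of `PSL(2, q)`, `q` odd: the Sylow 2-subgroup is dihedral
-/

set_option autoImplicit false
set_option linter.style.haveILetI false

namespace Cfsg.Lib.Recog.OrderSpecPSL

open Subgroup

universe u

variable {G : Type u} [Group G] [Finite G] {p q e o : ℕ}

/-- The configuration around the centralizer of an involution. -/
structure Cfg (G : Type u) [Group G] (p q e o : ℕ) (N : Subgroup G) where
  y : G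
  t : G
  S : Sylow 2 G
  data : Data G p q e o
  normal : N.Normal
  simple : IsSimpleGroup N
  even : 2 ∣ Nat.card N
  hy : orderOf y = e
  ht : t = y ^ (e / 2)
  cardC : Nat.card (centralizer ({t} : Set G)) = 2 * e
  hSC : (S : Subgroup G) ≤ centralizer ({t} : Set G)
  hSy : (zpowers y).relIndex (S : Subgroup G) = 2

/-- The configuration exists. -/
theorem Data.exists_cfg (h : Data G p q e o) {N : Subgroup G} (hn : N.Normal) (hs : IsSimpleGroup N)
    (h2 : 2 ∣ Nat.card N) : Nonempty (Cfg G p q e o N) := by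
  classical
  haveI := Fact.mk Nat.prime_two
  obtain ⟨y, hy⟩ := h.exE
  have he2 := h.he2
  obtain ⟨a, b, hb, hab⟩ := Nat.exists_eq_pow_mul_and_not_dvd (show e ≠ 0 by omega) 2 (by norm_num)
  have hb0 : b ≠ 0 := fun e' => hb (e' ▸ dvd_zero 2)
  have ha : a ≠ 0 := by
    rintro rfl
    rw [pow_zero, one_mul] at hab
    exact hb (hab ▸ h.he)
  have hord : orderOf (y ^ b) = 2 ^ a := by
    rw [orderOf_pow_of_dvd hb0 (hy ▸ hab ▸ dvd_mul_left b _), hy, hab, Nat.mul_div_cancel _ (Nat.pos_of_ne_zero hb0)]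
  obtain ⟨S, hS⟩ := (IsPGroup.of_card (n := a) (show Nat.card (zpowers (y ^ b)) = 2 ^ a by
    rw [Nat.card_zpowers, hord])).exists_le_sylow
  have hfac : (Nat.card G).factorization 2 = a + 1 := by
    have hG : Nat.card G = 2 ^ (a + 1) * (q * b * o) := by rw [h.card, hab]; ring
    have hnd : ¬ 2 ∣ q * b * o := by
      rw [Nat.prime_two.dvd_mul, Nat.prime_two.dvd_mul]
      have := Nat.prime_two.coprime_iff_not_dvd.1 h.two_coprime_q
      have := h.ho
      tauto
    rw [hG, Nat.factorization_mul (pow_ne_zero _ two_ne_zero) (fun e' => hnd (by rw [e']; exact dvd_zero 2)),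
      Finsupp.add_apply, Nat.prime_two.factorization_pow, Finsupp.single_eq_same,
      Nat.factorization_eq_zero_of_not_dvd hnd, add_zero]
  have hidx : (zpowers (y ^ b)).relIndex (S : Subgroup G) = 2 := by
    have h1 := relIndex_mul_relIndex ⊥ (zpowers (y ^ b)) (S : Subgroup G) bot_le hS
    rw [relIndex_bot_left, relIndex_bot_left, Nat.card_zpowers, hord, S.card_eq_multiplicity, hfac, pow_succ] at h1
    exact Nat.eq_of_mul_eq_mul_left (pow_pos two_pos a) h1
  set t := y ^ (e / 2) with ht
  have hto : orderOf t = 2 := by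
    rw [ht, orderOf_pow_of_dvd (by omega) (by rw [hy]; exact Nat.div_dvd_of_dvd h.he), hy]
    exact Nat.div_div_self h.he (by omega)
  have htS : t ∈ zpowers (y ^ b) := by
    have : e / 2 = b * 2 ^ (a - 1) := by
      rw [hab]
      conv_lhs => rw [show a = a - 1 + 1 by omega, pow_succ, mul_right_comm, Nat.mul_div_cancel _ two_pos]
      ring
    rw [ht, this, pow_mul]
    exact pow_mem (mem_zpowers _) _
  have hSC : (S : Subgroup G) ≤ centralizer ({t} : Set G) := by
    intro s hs
    haveI : ((zpowers (y ^ b)).subgroupOf (S : Subgroup G)).Normal := normal_of_index_eq_two hidx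
    have h1 := Subgroup.Normal.conj_mem ‹((zpowers (y ^ b)).subgroupOf (S : Subgroup G)).Normal›
      ⟨t, hS htS⟩ (mem_subgroupOf.2 htS) ⟨s, hs⟩
    rw [mem_subgroupOf] at h1
    obtain ⟨i, hi⟩ := mem_zpowers_of_orderOf_eq (g := (⟨t, htS⟩ : zpowers (y ^ b))) (x := ⟨_, h1⟩) (by
      rw [orderOf_mk, orderOf_mk]
      exact ((MulEquiv.orderOf_eq (MulAut.conj s) t)).symm)
    have hi' : t ^ i = s * t * s⁻¹ := congrArg Subtype.val hi
    have hts : s * t * s⁻¹ = t := by
      rw [← hi', ← zpow_mod_orderOf, hto]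
      rcases Int.emod_two_eq i with e1 | e1
      · exfalso
        rw [← zpow_mod_orderOf, hto, show (((2 : ℕ) : ℤ)) = 2 by norm_num, e1, zpow_zero] at hi'
        have : orderOf (s * t * s⁻¹) = 2 := (MulEquiv.orderOf_eq (MulAut.conj s) t).trans hto
        rw [← hi', orderOf_one] at this
        omega
      · rw [show (((2 : ℕ) : ℤ)) = 2 by norm_num, e1, zpow_one]
    exact mem_singleton_centralizer.2 (mul_inv_eq_iff_eq_mul.1 hts)
  have hyC : zpowers y ≤ centralizer ({t} : Set G) :=
    zpowers_le.2 (mem_singleton_centralizer.2 ((Commute.refl y).pow_right _).eq)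
  have hcard : Nat.card (centralizer ({t} : Set G)) = 2 * e := by
    refine Nat.dvd_antisymm (h.centralizer_e Nat.prime_two h.he hto) ?_
    have h1 : e ∣ Nat.card (centralizer ({t} : Set G)) := by
      rw [← hy, ← Nat.card_zpowers]; exact card_dvd_of_le hyC
    have h3 : 2 ^ (a + 1) ∣ Nat.card (centralizer ({t} : Set G)) := by
      rw [← hfac, ← S.card_eq_multiplicity]; exact card_dvd_of_le hSC
    rw [show 2 * e = 2 ^ (a + 1) * b by rw [hab]; ring]
    exact Nat.Coprime.mul_dvd_of_dvd_of_dvd ((Nat.prime_two.coprime_iff_not_dvd.2 hb).pow_left _) h3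
      ((dvd_mul_left b (2 ^ a)).trans (hab ▸ h1))
  refine ⟨⟨y, t, S, h, hn, hs, h2, hy, ht, hcard, hSC, ?_⟩⟩
  -- the index of the cyclic subgroup in `S`
  have h2' : (zpowers y).relIndex (centralizer ({t} : Set G)) = 2 := by
    have h1 := relIndex_mul_relIndex ⊥ (zpowers y) (centralizer ({t} : Set G)) bot_le hyC
    rw [relIndex_bot_left, relIndex_bot_left, Nat.card_zpowers, hy, hcard, mul_comm 2 e] at h1
    exact Nat.eq_of_mul_eq_mul_left (by omega) h1
  haveI : ((zpowers y).subgroupOf (centralizer ({t} : Set G))).Normal := normal_of_index_eq_two h2'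
  have hle : (zpowers y).relIndex (S : Subgroup G) ≤ 2 := le_of_le_of_eq (b := (zpowers y).relIndex (centralizer ({t} : Set G))) (relIndex_le_of_le_right hSC (by
    show (zpowers y).relIndex (centralizer ({t} : Set G)) ≠ 0
    omega)) h2'
  have hne1 : (zpowers y).relIndex (S : Subgroup G) ≠ 1 := by
    intro e1
    have hd : 2 ^ (a + 1) ∣ e := by
      rw [← hfac, ← S.card_eq_multiplicity, ← hy, ← Nat.card_zpowers]
      exact card_dvd_of_le (relIndex_eq_one.1 e1)
    rw [hab, pow_succ] at hd
    exact hb (Nat.dvd_of_mul_dvd_mul_left (pow_pos two_pos a) hd)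
  have hne0 : (zpowers y).relIndex (S : Subgroup G) ≠ 0 := index_ne_zero_of_finite
  omega

namespace Cfg

variable {N : Subgroup G} (c : Cfg G p q e o N)

theorem orderOf_t : orderOf c.t = 2 := by
  have := c.data.he2
  rw [c.ht, orderOf_pow_of_dvd (by omega) (by rw [c.hy]; exact Nat.div_dvd_of_dvd c.data.he), c.hy]
  exact Nat.div_div_self c.data.he (by omega)

theorem t_ne : c.t ≠ 1 := fun e' => by
  have := c.orderOf_t; rw [e', orderOf_one] at this; omega

theorem t_mem_E : c.t ∈ zpowers c.y := c.ht ▸ pow_mem (mem_zpowers _) _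

theorem E_le : zpowers c.y ≤ centralizer ({c.t} : Set G) :=
  zpowers_le.2 (mem_singleton_centralizer.2 (c.ht ▸ (Commute.refl c.y).pow_right _).eq)

theorem E_relIndex : (zpowers c.y).relIndex (centralizer ({c.t} : Set G)) = 2 := by
  have h1 := relIndex_mul_relIndex ⊥ (zpowers c.y) (centralizer ({c.t} : Set G)) bot_le c.E_le
  rw [relIndex_bot_left, relIndex_bot_left, Nat.card_zpowers, c.hy, c.cardC, mul_comm 2 e] at h1
  exact Nat.eq_of_mul_eq_mul_left (by have := c.data.he2; omega) h1

theorem E_comm {a b : G} (ha : a ∈ zpowers c.y) (hb : b ∈ zpowers c.y) : Commute a b := by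
  obtain ⟨i, rfl⟩ := ha
  obtain ⟨j, rfl⟩ := hb
  exact ((Commute.refl c.y).zpow_left i).zpow_right j

theorem E_invol {z : G} (hz : z ∈ zpowers c.y) (hz2 : z * z = 1) : z = 1 ∨ z = c.t := by
  by_cases h1 : z = 1
  · exact Or.inl h1
  right
  have hzo : orderOf z = 2 := orderOf_eq_prime (by rw [pow_two, hz2]) h1
  obtain ⟨i, hi⟩ := mem_zpowers_of_orderOf_eq (g := (⟨c.t, c.t_mem_E⟩ : zpowers c.y)) (x := ⟨z, hz⟩)
    (by rw [orderOf_mk, orderOf_mk, hzo, c.orderOf_t])
  have hi' : c.t ^ i = z := congrArg Subtype.val hi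
  rw [← zpow_mod_orderOf, c.orderOf_t] at hi'
  rcases Int.emod_two_eq i with e1 | e1
  · rw [show (((2 : ℕ) : ℤ)) = 2 by norm_num, e1, zpow_zero] at hi'; exact absurd hi'.symm h1
  · rw [show (((2 : ℕ) : ℤ)) = 2 by norm_num, e1, zpow_one] at hi'; exact hi'.symm

theorem conj_mem_E {g w : G} (hg : g ∈ centralizer ({c.t} : Set G)) (hw : w ∈ zpowers c.y) :
    g * w * g⁻¹ ∈ zpowers c.y := by
  haveI : ((zpowers c.y).subgroupOf (centralizer ({c.t} : Set G))).Normal := normal_of_index_eq_two c.E_relIndex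
  exact mem_subgroupOf.1 (Subgroup.Normal.conj_mem
    ‹((zpowers c.y).subgroupOf (centralizer ({c.t} : Set G))).Normal› ⟨w, c.E_le hw⟩ (mem_subgroupOf.2 hw) ⟨g, hg⟩)

theorem mul_mem_E {g h : G} (hg : g ∈ centralizer ({c.t} : Set G)) (hh : h ∈ centralizer ({c.t} : Set G))
    (hg' : g ∉ zpowers c.y) (hh' : h ∉ zpowers c.y) : g * h ∈ zpowers c.y := by
  have := (mul_mem_iff_of_index_two (H := (zpowers c.y).subgroupOf (centralizer ({c.t} : Set G)))
    c.E_relIndex (a := ⟨g, hg⟩) (b := ⟨h, hh⟩)).2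
  rw [mem_subgroupOf, mem_subgroupOf, mem_subgroupOf] at this
  exact this (iff_of_false hg' hh')

theorem odd_mem_E {g : G} (hg : g ∈ centralizer ({c.t} : Set G)) (hodd : Odd (orderOf g)) :
    g ∈ zpowers c.y := by
  by_contra hgE
  obtain ⟨k, hk⟩ := hodd
  have h1 : g * g ∈ zpowers c.y := c.mul_mem_E hg hg hgE hgE
  refine hgE ?_
  have : g = ((g * g) ^ k)⁻¹ := by
    rw [eq_inv_iff_mul_eq_one, ← pow_two, ← pow_mul, ← pow_succ', ← hk, pow_orderOf_eq_one]
  rw [this]
  exact inv_mem (pow_mem h1 k)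

include c in
theorem not_solvable : ¬ Group.IsSolvable N := fun hs => by
  haveI := c.normal
  haveI := c.simple
  exact (N.nontrivial_iff_ne_bot.1 inferInstance) (c.data.no_abelian_normal N hs)

/-- A Sylow 2-subgroup of `N`. -/
def T : Subgroup G := (c.S : Subgroup G) ⊓ N

theorem T_le_C : c.T ≤ centralizer ({c.t} : Set G) := inf_le_left.trans c.hSC

theorem T_sylow : ∃ P : Sylow 2 N, (P : Subgroup N) = c.T.subgroupOf N := by
  haveI := c.normal
  haveI := Fact.mk Nat.prime_two
  obtain ⟨P, hP⟩ := Cfsg.Lib.Local.exists_sylow_inf c.S N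
  exact ⟨P, by rw [hP, T, inf_subgroupOf_right]⟩

theorem T_not_cyclic : ¬ IsCyclic c.T := by
  intro hc
  classical
  haveI := Fact.mk Nat.prime_two
  haveI := c.simple
  obtain ⟨P, hP⟩ := c.T_sylow
  haveI : IsCyclic (P : Subgroup N) := by
    rw [hP]
    haveI := hc
    exact isCyclic_of_surjective _ (subgroupOfEquivOfLe (show c.T ≤ N from inf_le_right)).symm.surjective
  have hmin : (Nat.card N).minFac = 2 := by
    rw [Nat.minFac_eq_two_iff]; exact c.even
  have hcomp := IsCyclic.isComplement' hmin ‹IsCyclic (P : Subgroup N)›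
  rcases IsSimpleGroup.eq_bot_or_eq_top_of_normal _ (MonoidHom.normal_ker
    (MonoidHom.transferSylow P (IsCyclic.normalizer_le_centralizer hmin ‹IsCyclic (P : Subgroup N)›))) with h1 | h1
  · rw [h1, isComplement'_bot_left] at hcomp
    refine c.not_solvable ?_
    haveI := P.isPGroup'.isNilpotent
    haveI : Group.IsNilpotent N := Group.nilpotent_of_mulEquiv ((MulEquiv.subgroupCongr hcomp).trans topEquiv)
    infer_instance
  · rw [h1, isComplement'_top_left] at hcomp
    refine P.ne_bot_of_dvd_card c.even ?_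
    exact hcomp

theorem T_not_le_E : ¬ c.T ≤ zpowers c.y := fun h =>
  c.T_not_cyclic (isCyclic_of_injective (inclusion h) (inclusion_injective h))

theorem t_mem_T : c.t ∈ c.T := by
  haveI := Fact.mk Nat.prime_two
  have hne : c.T ⊓ zpowers c.y ≠ ⊥ := by
    intro h0
    refine c.T_not_cyclic ?_
    have h1 := inf_relIndex_right (zpowers c.y) c.T
    rw [inf_comm, h0, relIndex_bot_left] at h1
    have h2 : Nat.card c.T ≤ 2 := by
      rw [h1, ← c.hSy]
      exact relIndex_le_of_le_right (inf_le_left : c.T ≤ (c.S : Subgroup G)) (by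
        show (zpowers c.y).relIndex (c.S : Subgroup G) ≠ 0
        rw [c.hSy]; norm_num)
    have h3 : 0 < Nat.card c.T := Nat.card_pos
    rcases (show Nat.card c.T = 1 ∨ Nat.card c.T = 2 by omega) with e1 | e1
    · haveI := (Nat.card_eq_one_iff_unique.1 e1).1
      infer_instance
    · exact isCyclic_of_prime_card e1
  obtain ⟨x, hx, hx1⟩ := (bot_or_exists_ne_one _).resolve_left hne
  obtain ⟨k, hk⟩ := c.S.isPGroup' ⟨x, hx.1.1⟩
  have hk' : x ^ 2 ^ k = 1 := congrArg Subtype.val hk
  have : ∀ k : ℕ, ∀ x ∈ c.T ⊓ zpowers c.y, x ≠ 1 → x ^ 2 ^ k = 1 → c.t ∈ c.T := by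
    intro k
    induction k with
    | zero => intro x _ hx1 h; exact absurd (by simpa using h) hx1
    | succ k ih =>
      intro x hx hx1 h
      by_cases h2 : x * x = 1
      · rcases c.E_invol hx.2 h2 with e1 | e1
        · exact absurd e1 hx1
        · exact e1 ▸ hx.1
      · exact ih (x * x) (mul_mem hx hx) h2 (by rwa [← pow_two, ← pow_mul, ← pow_succ'])
  exact this k x hx hx1 hk'

theorem t_mem_N : c.t ∈ N := c.t_mem_T.2

theorem relIndex_T : (zpowers c.y).relIndex c.T = 2 := by
  have h1 : (zpowers c.y).relIndex c.T ≤ 2 := c.hSy ▸ relIndex_le_of_le_right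
    (inf_le_left : c.T ≤ (c.S : Subgroup G)) (by
      show (zpowers c.y).relIndex (c.S : Subgroup G) ≠ 0
      rw [c.hSy]; norm_num)
  have h2 : (zpowers c.y).relIndex c.T ≠ 1 := fun e' => c.T_not_le_E (relIndex_eq_one.1 e')
  have h3 : (zpowers c.y).relIndex c.T ≠ 0 := index_ne_zero_of_finite
  omega

theorem isPGroup_T : IsPGroup 2 c.T := c.S.isPGroup'.to_le inf_le_left

/-- Two involutions of `N` with a 2-subgroup containing both are conjugate into `T`. -/
theorem exists_outside_involution : ∃ s ∈ c.T, s ∉ zpowers c.y ∧ s * s = 1 := by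
  by_contra hc
  push Not at hc
  haveI := Fact.mk Nat.prime_two
  haveI := c.normal
  haveI := c.simple
  have huniq : ∀ z ∈ c.T, z * z = 1 → z ≠ 1 → z = c.t := by
    intro z hz hz2 hz1
    by_cases hzE : z ∈ zpowers c.y
    · exact (c.E_invol hzE hz2).resolve_left hz1
    · exact absurd hz2 (hc z hz hzE)
  set tN : N := ⟨c.t, c.t_mem_N⟩ with htN
  have hiso : Cfsg.IsIsolatedInvolution tN := by
    refine ⟨by rw [htN, orderOf_mk, c.orderOf_t], fun g hg => ?_⟩
    apply Subtype.ext
    show (g : G) * c.t * (g : G)⁻¹ = c.t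
    set t' := (g : G) * c.t * (g : G)⁻¹ with ht'
    have hcom : Commute c.t t' := congrArg Subtype.val hg.eq
    have ht'o : orderOf t' = 2 := (MulEquiv.orderOf_eq (MulAut.conj (g : G)) c.t).trans c.orderOf_t
    have hP : IsPGroup 2 (zpowers c.t ⊔ zpowers t' : Subgroup G) :=
      IsPGroup.to_sup_of_normal_right' (IsPGroup.of_card (n := 1) (by rw [Nat.card_zpowers, c.orderOf_t, pow_one]))
        (IsPGroup.of_card (n := 1) (by rw [Nat.card_zpowers, ht'o, pow_one]))
        (zpowers_le.2 (Data.exists_simple_normal.le_normalizer_of_commute hcom))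
    have ht'N : t' ∈ N := mul_mem (mul_mem g.2 c.t_mem_N) (inv_mem g.2)
    obtain ⟨n, -, hn⟩ := Cfsg.Lib.Local.exists_conj_mem_inf c.S hP (N := N)
      (sup_le (zpowers_le.2 c.t_mem_N) (zpowers_le.2 ht'N))
    have key : ∀ z : G, orderOf z = 2 → z ∈ zpowers c.t ⊔ zpowers t' → n * z * n⁻¹ = c.t := by
      intro z hz hzm
      have ho : orderOf (n * z * n⁻¹) = 2 := (MulEquiv.orderOf_eq (MulAut.conj n) z).trans hz
      refine huniq _ (hn z hzm) (by rw [← pow_two, ← ho, pow_orderOf_eq_one]) fun e' => ?_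
      rw [e', orderOf_one] at ho; omega
    have e1 := key c.t c.orderOf_t (mem_sup_left (mem_zpowers _))
    have e2 := key t' ht'o (mem_sup_right (mem_zpowers _))
    exact (mul_left_cancel (mul_right_cancel (e1.trans e2.symm))).symm
  have hcore : Cfsg.oddCore N = ⊥ := by
    rcases IsSimpleGroup.eq_bot_or_eq_top_of_normal (Cfsg.oddCore N) (inferInstance) with e1 | e1
    · exact e1
    · exfalso
      have h1 := Cfsg.Lib.Core.pPrimeCore_coprime 2 N
      rw [show Cfsg.pPrimeCore 2 N = ⊤ from e1, card_top] at h1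
      exact absurd c.even ((Nat.prime_two.coprime_iff_not_dvd).1 h1.symm)
  have hcen : tN ∈ center N := mem_center_iff.2 fun g => by
    have h1 := Cfsg.Lib.ZStar.zStarHolds N tN hiso g
    rw [hcore, mem_bot] at h1
    have : tN * g * tN⁻¹ = g := mul_inv_eq_one.1 h1
    exact (mul_inv_eq_iff_eq_mul.1 this).symm
  rcases IsSimpleGroup.eq_bot_or_eq_top_of_normal (center N) inferInstance with e1 | e1
  · rw [e1, mem_bot] at hcen
    exact c.t_ne (congrArg Subtype.val hcen)
  · exact c.not_solvable (Group.isSolvable_of_comm fun a b => (mem_center_iff.1 (e1 ▸ mem_top b)) a)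

/-- No subgroup of index two of `T` containing all relevant involutions. -/
theorem no_index_two (M : Subgroup G) (hMT : M ≤ c.T) (hidx : M.relIndex c.T = 2) (htM : c.t ∈ M)
    (hM : ∀ z ∈ c.T, z ∉ zpowers c.y → z * z = 1 →
      (∀ w ∈ c.T, w ∈ zpowers c.y → Commute w z → w * w = 1) → z ∈ M) : False := by
  classical
  haveI := Fact.mk Nat.prime_two
  haveI := c.normal
  haveI := c.simple
  obtain ⟨P, hP⟩ := c.T_sylow
  have hmemP : ∀ x : N, x ∈ (P : Subgroup N) ↔ (x : G) ∈ c.T := fun x => by rw [hP, mem_subgroupOf]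
  let M' : Subgroup ↥(P : Subgroup N) := ((M.subgroupOf N).subgroupOf (P : Subgroup N))
  have hmemM : ∀ x : ↥(P : Subgroup N), x ∈ M' ↔ ((x : N) : G) ∈ M := fun x => Iff.rfl
  have hM'i : M'.index = 2 := by
    rw [show M'.index = (M.subgroupOf N).relIndex (P : Subgroup N) from rfl, hP]
    exact (relIndex_subgroupOf (inf_le_right : c.T ≤ N)).trans hidx
  haveI : M'.Normal := normal_of_index_eq_two hM'i
  have hQ2 : Nat.card (↥(P : Subgroup N) ⧸ M') = 2 := by rw [← Subgroup.index_eq_card, hM'i]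
  haveI : IsCyclic (↥(P : Subgroup N) ⧸ M') := isCyclic_of_prime_card hQ2
  letI : CommGroup (↥(P : Subgroup N) ⧸ M') := IsCyclic.commGroup
  let χ : ↥(P : Subgroup N) →* ↥(P : Subgroup N) ⧸ M' := QuotientGroup.mk' M'
  let χ' : N → ↥(P : Subgroup N) ⧸ M' := fun n => if hn : n ∈ (P : Subgroup N) then χ ⟨n, hn⟩ else 1
  have hχ' : ∀ x : ↥(P : Subgroup N), χ' (x : N) = χ x := fun x => by simp only [χ', dif_pos x.2, Subtype.coe_eta]
  have hinv := Cfsg.Lib.TwoGroup.FusionInvariant.invariant P χ' (fun s hs x hx => by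
      have h1 : s * x * s⁻¹ = ((⟨s, hs⟩ * ⟨x, hx⟩ * ⟨s, hs⟩⁻¹ : ↥(P : Subgroup N)) : N) := rfl
      rw [h1, hχ', show χ' x = χ ⟨x, hx⟩ from hχ' ⟨x, hx⟩]
      simp only [map_mul, map_inv]
      rw [mul_comm (χ ⟨s, hs⟩), mul_inv_cancel_right]) ?_
  swap
  · intro D hDC hDA g hg hodd x hx
    set D' := D.map (P : Subgroup N).subtype with hD'
    have hD'P : D' ≤ (P : Subgroup N) := map_subtype_le D
    have hgx : g * x * g⁻¹ ∈ D' := (mem_normalizer_iff.1 hg x).1 hx
    set tP : ↥(P : Subgroup N) := ⟨⟨c.t, c.t_mem_N⟩, (hmemP _).2 c.t_mem_T⟩ with htP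
    have htD : (⟨c.t, c.t_mem_N⟩ : N) ∈ D' := by
      refine ⟨tP, hDC (mem_centralizer_iff.2 fun d _ => ?_), rfl⟩
      apply Subtype.ext; apply Subtype.ext
      exact mem_singleton_centralizer.1 (c.T_le_C ((hmemP _).1 d.2))
    have hgtD := (mem_normalizer_iff.1 hg _).1 htD
    have hT : ∀ z ∈ D', (z : G) ∈ c.T := fun z hz => (hmemP z).1 (hD'P hz)
    have hconjD : ∀ z ∈ D', (g : G) * (z : G) * (g : G)⁻¹ ∈ c.T := fun z hz =>
      hT _ ((mem_normalizer_iff.1 hg z).1 hz)
    by_cases hfix : (g : G) * c.t * (g : G)⁻¹ = c.t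
    · -- `g` fixes `t`, hence centralizes `D`
      have hgE : (g : G) ∈ zpowers c.y := by
        refine c.odd_mem_E (mem_singleton_centralizer.2 (mul_inv_eq_iff_eq_mul.1 hfix)) ?_
        rwa [orderOf_coe]
      have hcomm : Commute (g : G) (x : G) := by
        by_cases hxE : (x : G) ∈ zpowers c.y
        · exact c.E_comm hgE hxE
        · set r := (x : G)⁻¹ * ((g : G) * (x : G) * (g : G)⁻¹) with hr
          have hxC := c.T_le_C (hT x hx)
          have hrE : r ∈ zpowers c.y := by
            rw [hr, show (x : G)⁻¹ * ((g : G) * (x : G) * (g : G)⁻¹) =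
              ((x : G)⁻¹ * (g : G) * (x : G)⁻¹⁻¹) * (g : G)⁻¹ by group]
            exact mul_mem (c.conj_mem_E (inv_mem hxC) hgE) (inv_mem hgE)
          have hrT : r ∈ c.T := mul_mem (inv_mem (hT x hx)) (hconjD x hx)
          have hgr : Commute (g : G) r := c.E_comm hgE hrE
          have hit : ∀ k : ℕ, (g : G) ^ k * (x : G) * ((g : G) ^ k)⁻¹ = (x : G) * r ^ k := by
            intro k
            induction k with
            | zero => simp
            | succ k ih =>
              rw [pow_succ', mul_inv_rev, show (g : G) * (g : G) ^ k * (x : G) * (((g : G) ^ k)⁻¹ * (g : G)⁻¹) =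
                (g : G) * ((g : G) ^ k * (x : G) * ((g : G) ^ k)⁻¹) * (g : G)⁻¹ by group, ih,
                show (g : G) * ((x : G) * r ^ k) * (g : G)⁻¹ =
                ((g : G) * (x : G) * (g : G)⁻¹) * ((g : G) * r ^ k * (g : G)⁻¹) by group,
                (hgr.pow_right k).eq, mul_inv_cancel_right,
                show (g : G) * (x : G) * (g : G)⁻¹ = (x : G) * r by rw [hr, mul_inv_cancel_left], pow_succ', mul_assoc]
          have hr1 : r ^ orderOf (g : G) = 1 := by
            have h1 := hit (orderOf (g : G))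
            rw [pow_orderOf_eq_one, one_mul, inv_one, mul_one] at h1
            exact mul_left_cancel (h1.symm.trans (mul_one _).symm)
          obtain ⟨j, hj⟩ := c.isPGroup_T ⟨r, hrT⟩
          have hj' : r ^ 2 ^ j = 1 := congrArg Subtype.val hj
          have hco : Nat.Coprime (orderOf (g : G)) (2 ^ j) := by
            rw [orderOf_coe]; exact (Nat.coprime_two_right.2 hodd).pow_right j
          have : r = 1 := by
            have := pow_gcd_eq_one.2 ⟨hr1, hj'⟩
            rwa [hco.gcd_eq_one, pow_one] at this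
          rw [hr] at this
          exact (mul_inv_eq_iff_eq_mul.1 (inv_mul_eq_one.1 this).symm)
      congr 1
      apply Subtype.ext
      show (g : G) * (x : G) * (g : G)⁻¹ = (x : G)
      rw [hcomm.eq, mul_inv_cancel_right]
    · -- `g` moves `t`, hence `D` lies in `M`
      set t' := (g : G) * c.t * (g : G)⁻¹ with ht'
      have ht'T : t' ∈ c.T := hT _ hgtD
      have ht'2 : t' * t' = 1 := by
        rw [ht', show (g : G) * c.t * (g : G)⁻¹ * ((g : G) * c.t * (g : G)⁻¹) = (g : G) * (c.t * c.t) * (g : G)⁻¹ by group,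
          show c.t * c.t = 1 by rw [← pow_two, ← c.orderOf_t, pow_orderOf_eq_one]]
        group
      have ht'1 : t' ≠ 1 := fun e' => c.t_ne (by
        rw [ht'] at e'; exact conj_eq_one_iff.1 e')
      have ht'E : t' ∉ zpowers c.y := fun hE => hfix ((c.E_invol hE ht'2).resolve_left ht'1)
      -- elements of `D` in the cyclic subgroup square to one
      have hexp : ∀ z ∈ D', (z : G) ∈ zpowers c.y → (z : G) * (z : G) = 1 := by
        intro z hz hzE
        have haux : ∀ k : ℕ, ∀ z ∈ D', (z : G) ∈ zpowers c.y → (z : G) ^ 2 ^ k = 1 → (z : G) * (z : G) = 1 := by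
          intro k
          induction k with
          | zero => intro z _ _ h; rw [pow_zero, pow_one] at h; rw [h, mul_one]
          | succ k ih =>
            intro z hz hzE h
            have h4 := ih (z * z) (mul_mem hz hz) (mul_mem hzE hzE) (by
              rw [Subgroup.coe_mul, ← pow_two, ← pow_mul, ← pow_succ']; exact h)
            rw [Subgroup.coe_mul] at h4
            by_contra hne
            have hzt : (z : G) * (z : G) = c.t := (c.E_invol (mul_mem hzE hzE) h4).resolve_left hne
            refine ht'E ?_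
            rw [ht', ← hzt, show (g : G) * ((z : G) * (z : G)) * (g : G)⁻¹ =
              ((g : G) * (z : G) * (g : G)⁻¹) * ((g : G) * (z : G) * (g : G)⁻¹) by group]
            by_cases hgz : (g : G) * (z : G) * (g : G)⁻¹ ∈ zpowers c.y
            · exact mul_mem hgz hgz
            · exact c.mul_mem_E (c.T_le_C (hconjD z hz)) (c.T_le_C (hconjD z hz)) hgz hgz
        obtain ⟨k, hk⟩ := c.isPGroup_T ⟨(z : G), hT z hz⟩
        exact haux k z hz hzE (congrArg Subtype.val hk)
      have ht'cen : ∀ z ∈ D', Commute t' (z : G) := by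
        intro z hz
        have hz' : g⁻¹ * z * g ∈ D' := by
          have := (mem_normalizer_iff.1 (inv_mem hg) z).1 hz
          simpa using this
        have h1 : Commute c.t ((g : G)⁻¹ * (z : G) * (g : G)) :=
          (mem_singleton_centralizer.1 (c.T_le_C (hT _ hz'))).symm
        have h2 := (Commute.conj_iff (g : G)).2 h1
        rw [show (g : G) * ((g : G)⁻¹ * (z : G) * (g : G)) * (g : G)⁻¹ = (z : G) by group] at h2
        exact h2
      have ht'M : t' ∈ M := by
        refine hM t' ht'T ht'E ht'2 fun w hwT hwE hw => ?_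
        set wP : ↥(P : Subgroup N) := ⟨⟨w, hwT.2⟩, (hmemP _).2 hwT⟩ with hwP
        -- `w` centralizes `D`
        have hwD : (⟨w, hwT.2⟩ : N) ∈ D' := by
          refine ⟨wP, hDC (mem_centralizer_iff.2 fun d hd => ?_), rfl⟩
          apply Subtype.ext; apply Subtype.ext
          show ((d : N) : G) * w = w * ((d : N) : G)
          have hd' : (d : N) ∈ D' := ⟨d, hd, rfl⟩
          by_cases hdE : ((d : N) : G) ∈ zpowers c.y
          · exact (c.E_comm hdE hwE).eq
          · have h3 : ((d : N) : G) * t' ∈ zpowers c.y :=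
              c.mul_mem_E (c.T_le_C (hT _ hd')) (c.T_le_C ht'T) hdE ht'E
            have h4 : Commute (((d : N) : G) * t') w := c.E_comm h3 hwE
            have h5 : Commute (((d : N) : G) * t' * t') w := h4.mul_left hw.symm
            rw [mul_assoc, ht'2, mul_one] at h5
            exact h5.eq
        exact hexp _ hwD hwE
      have hall : ∀ z ∈ D', (z : G) ∈ M := by
        intro z hz
        by_cases hzE : (z : G) ∈ zpowers c.y
        · rcases c.E_invol hzE (hexp z hz hzE) with e1 | e1
          · rw [e1]; exact one_mem M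
          · rw [e1]; exact htM
        · have hzt : z * (g * ⟨c.t, c.t_mem_N⟩ * g⁻¹) ∈ D' := mul_mem hz hgtD
          have h3 : (z : G) * t' ∈ zpowers c.y :=
            c.mul_mem_E (c.T_le_C (hT z hz)) (c.T_le_C ht'T) hzE ht'E
          have h4 : (z : G) * t' ∈ M := by
            rcases c.E_invol h3 (hexp _ hzt h3) with e1 | e1
            · rw [e1]; exact one_mem M
            · rw [e1]; exact htM
          have := mul_mem h4 ht'M
          rwa [mul_assoc, ht'2, mul_one] at this
      have e1 : ∀ z ∈ D', χ' z = 1 := fun z hz => by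
        rw [show χ' z = χ ⟨z, hD'P hz⟩ from hχ' ⟨z, hD'P hz⟩]
        exact (QuotientGroup.eq_one_iff _).2 ((hmemM _).2 (hall z hz))
      rw [e1 x hx, e1 _ hgx]
  obtain ⟨τ, hτ⟩ := Cfsg.Lib.TwoGroup.FusionInvariant.exists_transfer P χ (fun x g hgx => by
    have := hinv x x.2 g hgx
    rw [hχ' x, show χ' (g * x * g⁻¹) = χ ⟨_, hgx⟩ from hχ' ⟨_, hgx⟩] at this
    exact this)
  obtain ⟨s, hs⟩ : ∃ s : ↥(P : Subgroup N), s ∉ M' := by
    by_contra hc
    push Not at hc
    rw [show M' = ⊤ from (eq_top_iff' _).2 hc, index_top] at hM'i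
    omega
  rcases IsSimpleGroup.eq_bot_or_eq_top_of_normal τ.ker (MonoidHom.normal_ker τ) with h1 | h1
  · refine c.not_solvable (Group.isSolvable_of_comm fun a b => ?_)
    exact (MonoidHom.ker_eq_bot_iff τ).1 h1 (by rw [map_mul, map_mul, mul_comm])
  · have h2 := hτ s
    rw [MonoidHom.mem_ker.1 (h1 ▸ mem_top (s : N))] at h2
    refine hs ((QuotientGroup.eq_one_iff _).1 ?_)
    have ho2 : orderOf (χ s) ∣ 2 := (_root_.orderOf_dvd_natCard (χ s)).trans hQ2.dvd
    have ho : orderOf (χ s) ∣ (P : Subgroup N).index := orderOf_dvd_of_pow_eq_one h2.symm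
    exact orderOf_eq_one_iff.1 (Nat.eq_one_of_dvd_coprimes
      (Nat.prime_two.coprime_iff_not_dvd.2 P.not_dvd_index) ho2 ho)

/-- The Sylow 2-subgroup is generated by `a ∈ E` and an involution inverting it. -/
theorem exists_dihedral : ∃ a s : G, a ∈ zpowers c.y ∧ s ∈ c.T ∧ s ∉ zpowers c.y ∧ s * s = 1 ∧
    s * a * s⁻¹ = a⁻¹ ∧ c.T ⊓ zpowers c.y = zpowers a ∧ closure ({a, s} : Set G) = c.T ∧ 2 ≤ orderOf a := by
  classical
  obtain ⟨s, hsT, hsE, hs2⟩ := c.exists_outside_involution
  have hsC := c.T_le_C hsT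
  haveI : IsCyclic (c.T ⊓ zpowers c.y : Subgroup G) :=
    isCyclic_of_injective (inclusion inf_le_right) (inclusion_injective (inf_le_right (a := c.T) (b := zpowers c.y)))
  obtain ⟨⟨a, haT, haE⟩, ha⟩ := IsCyclic.exists_generator (α := (c.T ⊓ zpowers c.y : Subgroup G))
  have hgen : c.T ⊓ zpowers c.y = zpowers a := by
    refine le_antisymm (fun z hz => ?_) (zpowers_le.2 ⟨haT, haE⟩)
    obtain ⟨i, hi⟩ := ha ⟨z, hz⟩
    exact ⟨i, congrArg Subtype.val hi⟩
  have hsinv : s⁻¹ = s := inv_eq_of_mul_eq_one_right hs2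
  have hout : ∀ z ∈ c.T, z ∉ zpowers c.y → z * s ∈ zpowers a := fun z hz hzE =>
    hgen ▸ ⟨mul_mem hz hsT, c.mul_mem_E (c.T_le_C hz) hsC hzE hsE⟩
  have hsplit : ∀ z ∈ c.T, z ∈ zpowers a ∨ z * s ∈ zpowers a := fun z hz => by
    by_cases hzE : z ∈ zpowers c.y
    · exact Or.inl (hgen ▸ ⟨hz, hzE⟩)
    · exact Or.inr (hout z hz hzE)
  -- no element of order four of the cyclic part commutes with `s`
  have hcs : ∀ w ∈ c.T, w ∈ zpowers c.y → Commute w s → w * w = 1 := by
    intro w hw hwE hws
    by_contra hne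
    refine c.no_index_two (c.T ⊓ zpowers c.y) inf_le_left ?_ ⟨c.t_mem_T, c.t_mem_E⟩ fun z hz hzE hz2 hzw => ?_
    · rw [inf_comm, inf_relIndex_right]; exact c.relIndex_T
    · refine absurd (hzw w hw hwE ?_) hne
      have h1 : Commute w (z * s) := c.E_comm hwE (c.mul_mem_E (c.T_le_C hz) hsC hzE hsE)
      have h2 := h1.mul_right hws
      rwa [mul_assoc, hs2, mul_one] at h2
  set a' := s * a * s⁻¹ with ha'
  have ha'E : a' ∈ zpowers c.y := c.conj_mem_E hsC haE
  have ha'T : a' ∈ c.T := mul_mem (mul_mem hsT haT) (inv_mem hsT)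
  have hc2 : a * a' * (a * a') = 1 := by
    refine hcs _ (mul_mem haT ha'T) (mul_mem haE ha'E) ?_
    have h3 : s * a' = a * s := by rw [ha', hsinv, ← mul_assoc, ← mul_assoc, hs2, one_mul]
    show a * a' * s = s * (a * a')
    have h4 : a' * s = s * a := by rw [ha', inv_mul_cancel_right]
    rw [mul_assoc a a' s, h4, (c.E_comm haE ha'E).eq, ← mul_assoc s a' a, h3, mul_assoc]
  have hinv : s * a * s⁻¹ = a⁻¹ := by
    rcases c.E_invol (mul_mem haE ha'E) hc2 with e1 | e1
    · exact eq_inv_of_mul_eq_one_right e1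
    · exfalso
      -- the semidihedral configuration
      have ha'' : a' = c.t * a⁻¹ := by rw [← e1, (c.E_comm haE ha'E).eq, mul_inv_cancel_right]
      have hta : Commute c.t a := c.E_comm c.t_mem_E haE
      have ht2 : c.t * c.t = 1 := by rw [← pow_two, ← c.orderOf_t, pow_orderOf_eq_one]
      have hti : ∀ i : ℤ, s * a ^ i * s⁻¹ = c.t ^ i * a ^ (-i) := by
        intro i
        rw [← conj_zpow, ← ha', ha'', hta.inv_right.mul_zpow, inv_zpow', zpow_neg]
      have hte : ∀ j : ℤ, c.t ^ (2 * j) = 1 := fun j => by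
        rw [zpow_mul, show c.t ^ (2 : ℤ) = 1 by rw [zpow_two, ht2], one_zpow]
      have htj : ∀ j : ℤ, s * a ^ (2 * j) * s⁻¹ = a ^ (-(2 * j)) := fun j => by rw [hti, hte, one_mul]
      have hsmul : ∀ j : ℤ, s * a ^ (2 * j) = a ^ (-(2 * j)) * s := fun j => mul_inv_eq_iff_eq_mul.1 (htj j)
      let M : Subgroup G :=
        { carrier := {z | ∃ j : ℤ, z = a ^ (2 * j) ∨ z = a ^ (2 * j) * s}
          one_mem' := ⟨0, Or.inl (by simp)⟩
          mul_mem' := by
            rintro x z ⟨i, rfl | rfl⟩ ⟨j, rfl | rfl⟩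
            · exact ⟨i + j, Or.inl (by rw [← zpow_add]; ring_nf)⟩
            · exact ⟨i + j, Or.inr (by rw [← mul_assoc, ← zpow_add]; ring_nf)⟩
            · exact ⟨i - j, Or.inr (by rw [mul_assoc, hsmul, ← mul_assoc, ← zpow_add]; ring_nf)⟩
            · exact ⟨i - j, Or.inl (by
                rw [mul_assoc, ← mul_assoc s, hsmul, mul_assoc _ s s, hs2, mul_one, ← zpow_add]; ring_nf)⟩
          inv_mem' := by
            rintro x ⟨i, rfl | rfl⟩
            · exact ⟨-i, Or.inl (by rw [← zpow_neg]; ring_nf)⟩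
            · exact ⟨i, Or.inr (by rw [mul_inv_rev, hsinv, ← zpow_neg, ← mul_neg, hsmul, mul_neg, neg_neg])⟩ }
      have hMT : M ≤ c.T := by
        rintro x ⟨j, rfl | rfl⟩
        · exact Subgroup.zpow_mem c.T haT _
        · exact c.T.mul_mem (Subgroup.zpow_mem c.T haT _) hsT
      have ha1 : a ≠ 1 := by
        intro e'
        rw [e', zpowers_one_eq_bot] at hgen
        exact c.t_ne (mem_bot.1 (hgen ▸ ⟨c.t_mem_T, c.t_mem_E⟩))
      have haM : a ∉ M := by
        rintro ⟨j, hj | hj⟩
        · have h1 : a ^ (2 * j - 1) = 1 := by rw [zpow_sub_one, ← hj, mul_inv_cancel]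
          obtain ⟨k, hk⟩ := c.isPGroup_T ⟨a, haT⟩
          have hk' : a ^ 2 ^ k = 1 := congrArg Subtype.val hk
          have hd : (orderOf a : ℤ) ∣ 2 * j - 1 := orderOf_dvd_iff_zpow_eq_one.2 h1
          obtain ⟨i, -, hi⟩ := (Nat.dvd_prime_pow Nat.prime_two).1 (orderOf_dvd_of_pow_eq_one hk')
          have h2 : 2 ∣ orderOf a := hi ▸ dvd_pow_self 2 (fun e0 => ha1 (orderOf_eq_one_iff.1 (by rw [hi, e0, pow_zero])))
          have h3 : (2 : ℤ) ∣ 2 * j - 1 := (Int.natCast_dvd_natCast.2 h2).trans hd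
          omega
        · exact hsE (by
            have : s = (a ^ (2 * j))⁻¹ * a := by rw [eq_inv_mul_iff_mul_eq, ← hj]
            rw [this]; exact (zpowers c.y).mul_mem ((zpowers c.y).inv_mem (Subgroup.zpow_mem _ haE _)) haE)
      have hpar : ∀ i : ℤ, a ^ i ∈ M ∨ a ^ i * a ∈ M := fun i => by
        rcases Int.even_or_odd' i with ⟨j, rfl | rfl⟩
        · exact Or.inl ⟨j, Or.inl rfl⟩
        · exact Or.inr ⟨j + 1, Or.inl (by rw [← zpow_add_one]; ring_nf)⟩
      have hidx : M.relIndex c.T = 2 := by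
        refine (relIndex_eq_two_iff (H := M) (K := c.T)).2 ⟨a, haT, fun z hz => ?_⟩
        have hsM : s ∈ M := ⟨0, Or.inr (by simp)⟩
        have hone : z * a ∈ M ∨ z ∈ M := by
          rcases hsplit z hz with hza | hza
          · obtain ⟨i, rfl⟩ := hza
            exact (hpar i).symm
          · obtain ⟨i, hi⟩ := hza
            have hzi : z = a ^ i * s := by rw [show a ^ i = z * s from hi, mul_assoc, hs2, mul_one]
            rcases hpar i with h1 | h1
            · exact Or.inr (hzi ▸ mul_mem h1 hsM)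
            · left
              obtain ⟨j, hj⟩ : ∃ j : ℤ, i = 2 * j + 1 := by
                rcases Int.even_or_odd' i with ⟨j, hj | hj⟩
                · exfalso
                  apply haM
                  have h2 : a ^ i ∈ M := ⟨j, Or.inl (by rw [hj])⟩
                  simpa using mul_mem (inv_mem h2) h1
                · exact ⟨j, hj⟩
              have hsa : s * a = c.t * a⁻¹ * s := by rw [← ha'', ha', inv_mul_cancel_right]
              have heq : z * a = a ^ (2 * j) * c.t * s := by
                rw [hzi, mul_assoc, hsa, hj, zpow_add_one]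
                simp only [mul_assoc]
                rw [← mul_assoc a c.t, ← hta.eq, mul_assoc c.t a, mul_inv_cancel_left]
              rw [heq]
              refine mul_mem (mul_mem ⟨j, Or.inl rfl⟩ ?_) hsM
              obtain ⟨l, hl⟩ : c.t ∈ zpowers a := hgen ▸ ⟨c.t_mem_T, c.t_mem_E⟩
              rcases hpar l with h2 | h2
              · rwa [← hl]
              · exfalso
                obtain ⟨j', hj'⟩ : ∃ j' : ℤ, l = 2 * j' + 1 := by
                  rcases Int.even_or_odd' l with ⟨j', h4 | h4⟩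
                  · exfalso
                    apply haM
                    have h5 : a ^ l ∈ M := ⟨j', Or.inl (by rw [h4])⟩
                    simpa using mul_mem (inv_mem h5) h2
                  · exact ⟨j', h4⟩
                have h6 := hti l
                have h7 : s * c.t * s⁻¹ = c.t := by
                  rw [mem_singleton_centralizer.1 hsC, mul_inv_cancel_right]
                rw [show a ^ l = c.t from hl, h7, hj', zpow_add_one, hte, one_mul, ← hj', zpow_neg,
                  show a ^ l = c.t from hl, inv_eq_of_mul_eq_one_right ht2, ht2] at h6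
                exact c.t_ne h6
        rcases hone with h1 | h1
        · refine Or.inl ⟨h1, fun h2 => haM ?_⟩
          simpa using mul_mem (inv_mem h2) h1
        · refine Or.inr ⟨h1, fun h2 => haM ?_⟩
          simpa using mul_mem (inv_mem h1) h2
      obtain ⟨l, hl⟩ : c.t ∈ zpowers a := hgen ▸ ⟨c.t_mem_T, c.t_mem_E⟩
      have htM : c.t ∈ M := by
        rcases Int.even_or_odd' l with ⟨j, rfl | rfl⟩
        · exact ⟨j, Or.inl hl.symm⟩
        · exfalso
          have h6 := hti (2 * j + 1)
          have h7 : s * c.t * s⁻¹ = c.t := by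
            rw [mem_singleton_centralizer.1 hsC, mul_inv_cancel_right]
          rw [show a ^ (2 * j + 1) = c.t from hl, h7, zpow_add_one, hte, one_mul, zpow_neg,
            show a ^ (2 * j + 1) = c.t from hl, inv_eq_of_mul_eq_one_right ht2, ht2] at h6
          exact c.t_ne h6
      refine c.no_index_two M hMT hidx htM fun z hz hzE hz2 _ => ?_
      obtain ⟨i, hi⟩ := hout z hz hzE
      have hzi : z = a ^ i * s := by rw [show a ^ i = z * s from hi, mul_assoc, hs2, mul_one]
      rcases Int.even_or_odd' i with ⟨j, rfl | rfl⟩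
      · exact ⟨j, Or.inr hzi⟩
      · exfalso
        have h6 := hti (2 * j + 1)
        rw [zpow_add_one c.t, hte, one_mul] at h6
        refine c.t_ne ?_
        have : z * z = a ^ (2 * j + 1) * (s * a ^ (2 * j + 1) * s⁻¹) := by
          rw [hzi, hsinv]; group
        rw [this, h6, zpow_neg, ← mul_assoc, ← (hta.zpow_right _).eq, mul_inv_cancel_right] at hz2
        exact hz2
  have hcl : closure ({a, s} : Set G) = c.T := by
    refine le_antisymm ((closure_le _).2 ?_) fun z hz => ?_
    · rintro z (rfl | rfl)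
      · exact haT
      · exact hsT
    · have hA : zpowers a ≤ closure ({a, s} : Set G) := zpowers_le.2 (subset_closure (Set.mem_insert _ _))
      have hsm : s ∈ closure ({a, s} : Set G) := subset_closure (Set.mem_insert_of_mem _ rfl)
      rcases hsplit z hz with h1 | h1
      · exact hA h1
      · have := mul_mem (hA h1) hsm
        rwa [mul_assoc, hs2, mul_one] at this
  refine ⟨a, s, haE, hsT, hsE, hs2, hinv, hgen, hcl, ?_⟩
  by_contra hlt
  have := orderOf_pos a
  have ha1 : a = 1 := orderOf_eq_one_iff.1 (by omega)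
  rw [ha1, zpowers_one_eq_bot] at hgen
  exact c.t_ne (mem_bot.1 (hgen ▸ ⟨c.t_mem_T, c.t_mem_E⟩))

end Cfg

end Cfsg.Lib.Recog.OrderSpecPSL
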