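import Cfsg.Agent.Lib.Recog.OrderSpecPSL.Dihedral
import Cfsg.Agent.Lib.Char.CAEven
import Cfsg.Agent.Lib.DihedralAut
import Cfsg.Agent.Lib.Spec.PSLTwoSpectrum
import Cfsg.Agent.Lib.Linear.PSLSmall
import Cfsg.Agent.S0508

/-!
# Groups with the order and the element orders of `PSL(2, q)`, `q` odd: identification
-/

set_option autoImplicit false
set_option linter.style.haveILetI false

namespace Cfsg.Lib.Recog.OrderSpecPSL

open Subgroup

universe u

variable {G : Type u} [Group G] [Finite G] {p q e o : ℕ}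

namespace Cfg

variable {N : Subgroup G} (c : Cfg G p q e o N)

theorem exists_prime_power_elt {u : G} (hu : u ≠ 1) (hodd : Odd (orderOf u)) :
    ∃ (r : ℕ) (k : ℕ), r.Prime ∧ r ≠ 2 ∧ orderOf (u ^ k) = r := by
  obtain ⟨r, hr, hrd⟩ := Nat.exists_prime_and_dvd (fun e' => hu (orderOf_eq_one_iff.1 e'))
  obtain ⟨d, hd⟩ := hrd
  have hd0 : d ≠ 0 := fun e' => by rw [e', mul_zero] at hd; exact (orderOf_pos u).ne' hd
  refine ⟨r, d, hr, fun e' => ?_, ?_⟩
  · subst e'
    exact (Nat.not_even_iff_odd.2 hodd) (even_iff_two_dvd.2 ⟨d, hd⟩)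
  · rw [orderOf_pow_of_dvd hd0 (hd ▸ dvd_mul_left d r), hd, Nat.mul_div_cancel _ (Nat.pos_of_ne_zero hd0)]

theorem dvd_e_of_mem {u : G} (hu : u ∈ zpowers c.y) {r : ℕ} (h : r ∣ orderOf u) : r ∣ e := by
  obtain ⟨i, rfl⟩ := hu
  exact h.trans ((orderOf_dvd_of_pow_eq_one (n := orderOf c.y) (by
    rw [← zpow_natCast, ← zpow_mul, mul_comm, zpow_mul, zpow_natCast, pow_orderOf_eq_one, one_zpow])).trans c.hy.dvd)

/-- The elements of `E` are centralized by the centralizer of a larger element. -/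
theorem centralizer_mem_cases {u : G} (hu : u ∈ zpowers c.y) {r : ℕ} (hr : r.Prime) (hru : orderOf u = r) :
    zpowers c.y ≤ centralizer ({u} : Set G) ∧ centralizer ({u} : Set G) ≤ centralizer ({c.t} : Set G) := by
  have hle : zpowers c.y ≤ centralizer ({u} : Set G) := fun w hw =>
    mem_singleton_centralizer.2 (c.E_comm hw hu).eq
  refine ⟨hle, fun g hg => ?_⟩
  have hdvd := c.data.centralizer_e hr (c.dvd_e_of_mem hu hru.symm.dvd) hru
  have h1 := relIndex_mul_relIndex ⊥ (zpowers c.y) (centralizer ({u} : Set G)) bot_le hle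
  rw [relIndex_bot_left, relIndex_bot_left, Nat.card_zpowers, c.hy] at h1
  have h2 : (zpowers c.y).relIndex (centralizer ({u} : Set G)) ∣ 2 := by
    rw [← h1, mul_comm 2 e] at hdvd
    exact Nat.dvd_of_mul_dvd_mul_left (by have := c.data.he2; omega) hdvd
  haveI : ((zpowers c.y).subgroupOf (centralizer ({u} : Set G))).Normal := by
    rcases (Nat.dvd_prime Nat.prime_two).1 h2 with e1 | e1
    · rw [Subgroup.index_eq_one.1 (show ((zpowers c.y).subgroupOf (centralizer ({u} : Set G))).index = 1 from e1)]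
      infer_instance
    · exact normal_of_index_eq_two e1
  have hm := mem_subgroupOf.1 (Subgroup.Normal.conj_mem
    ‹((zpowers c.y).subgroupOf (centralizer ({u} : Set G))).Normal› ⟨c.t, hle c.t_mem_E⟩
    (mem_subgroupOf.2 c.t_mem_E) ⟨g, hg⟩)
  have hsq : g * c.t * g⁻¹ * (g * c.t * g⁻¹) = 1 := by
    rw [show g * c.t * g⁻¹ * (g * c.t * g⁻¹) = g * (c.t * c.t) * g⁻¹ by group,
      show c.t * c.t = 1 by rw [← pow_two, ← c.orderOf_t, pow_orderOf_eq_one]]
    group
  rcases c.E_invol hm hsq with e1 | e1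
  · exact absurd (conj_eq_one_iff.1 e1) c.t_ne
  · exact mem_singleton_centralizer.2 (mul_inv_eq_iff_eq_mul.1 e1)

theorem centralizer_eq_of_mem {u : G} (hu : u ∈ zpowers c.y) {r : ℕ} (hr : r.Prime) (hru : orderOf u = r)
    {g : G} (hg : g ∈ centralizer ({u} : Set G)) (hgE : g ∉ zpowers c.y) :
    centralizer ({u} : Set G) = centralizer ({c.t} : Set G) := by
  obtain ⟨h1, h2⟩ := c.centralizer_mem_cases hu hr hru
  refine le_antisymm h2 fun x hx => ?_
  by_cases hxE : x ∈ zpowers c.y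
  · exact h1 hxE
  · have h3 := c.mul_mem_E hx (h2 hg) hxE hgE
    have := mul_mem (h1 h3) (inv_mem hg)
    rwa [mul_inv_cancel_right] at this

theorem centralizer_conj {u g : G} (hg : g * u * g⁻¹ ∈ zpowers u) (hu : u ∈ zpowers (g * u * g⁻¹)) {x : G}
    (hx : x ∈ centralizer ({u} : Set G)) : g * x * g⁻¹ ∈ centralizer ({u} : Set G) := by
  obtain ⟨i, hi⟩ := hu
  have h1 : Commute (g * x * g⁻¹) (g * u * g⁻¹) :=
    (Commute.conj_iff g).2 (mem_singleton_centralizer.1 hx)
  refine mem_singleton_centralizer.2 ?_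
  have h2 := h1.zpow_right i
  rw [show (g * u * g⁻¹) ^ i = u from hi] at h2
  exact h2.eq

/-- Every involution of `T` is conjugate in `N` to another one. -/
theorem exists_partner {z : G} (hzT : z ∈ c.T) (hz : orderOf z = 2) :
    ∃ g ∈ N, g * z * g⁻¹ ≠ z ∧ g * z * g⁻¹ ∈ c.T := by
  haveI := Fact.mk Nat.prime_two
  haveI := c.normal
  haveI := c.simple
  by_contra hc
  push Not at hc
  have hfix : ∀ g ∈ N, g * z * g⁻¹ ∈ c.T → g * z * g⁻¹ = z := fun g hg hT => by
    by_contra hne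
    exact hc g hg hne hT
  set zN : N := ⟨z, hzT.2⟩ with hzN
  have hiso : Cfsg.IsIsolatedInvolution zN := by
    refine ⟨by rw [hzN, orderOf_mk, hz], fun g hg => ?_⟩
    apply Subtype.ext
    show (g : G) * z * (g : G)⁻¹ = z
    set z' := (g : G) * z * (g : G)⁻¹ with hz'
    have hcom : Commute z z' := congrArg Subtype.val hg.eq
    have hz'o : orderOf z' = 2 := (MulEquiv.orderOf_eq (MulAut.conj (g : G)) z).trans hz
    have hP : IsPGroup 2 (zpowers z ⊔ zpowers z' : Subgroup G) :=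
      IsPGroup.to_sup_of_normal_right' (IsPGroup.of_card (n := 1) (by rw [Nat.card_zpowers, hz, pow_one]))
        (IsPGroup.of_card (n := 1) (by rw [Nat.card_zpowers, hz'o, pow_one]))
        (zpowers_le.2 (Data.exists_simple_normal.le_normalizer_of_commute hcom))
    have hz'N : z' ∈ N := mul_mem (mul_mem g.2 hzT.2) (inv_mem g.2)
    obtain ⟨n, hnN, hn⟩ := Cfsg.Lib.Local.exists_conj_mem_inf c.S hP (N := N)
      (sup_le (zpowers_le.2 hzT.2) (zpowers_le.2 hz'N))
    have e1 : n * z * n⁻¹ = z := hfix n hnN (hn z (mem_sup_left (mem_zpowers _)))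
    have h2 : n * z' * n⁻¹ ∈ c.T := hn z' (mem_sup_right (mem_zpowers _))
    have e2 : n * z' * n⁻¹ = z := by
      have h3 : n * z' * n⁻¹ = (n * (g : G)) * z * (n * (g : G))⁻¹ := by rw [hz']; group
      rw [h3] at h2 ⊢
      exact hfix _ (mul_mem hnN g.2) h2
    exact (mul_left_cancel (mul_right_cancel (e1.trans e2.symm))).symm
  have hcore : Cfsg.oddCore N = ⊥ := by
    rcases IsSimpleGroup.eq_bot_or_eq_top_of_normal (Cfsg.oddCore N) (inferInstance) with e1 | e1
    · exact e1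
    · exfalso
      have h1 := Cfsg.Lib.Core.pPrimeCore_coprime 2 N
      rw [show Cfsg.pPrimeCore 2 N = ⊤ from e1, card_top] at h1
      exact absurd c.even ((Nat.prime_two.coprime_iff_not_dvd).1 h1.symm)
  have hcen : zN ∈ center N := mem_center_iff.2 fun g => by
    have h1 := Cfsg.Lib.ZStar.zStarHolds N zN hiso g
    rw [hcore, mem_bot] at h1
    have : zN * g * zN⁻¹ = g := mul_inv_eq_one.1 h1
    exact (mul_inv_eq_iff_eq_mul.1 this).symm
  rcases IsSimpleGroup.eq_bot_or_eq_top_of_normal (center N) inferInstance with e1 | e1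
  · rw [e1, mem_bot] at hcen
    have : z = 1 := congrArg Subtype.val hcen
    rw [this, orderOf_one] at hz
    omega
  · exact c.not_solvable (Group.isSolvable_of_comm fun a b => (mem_center_iff.1 (e1 ▸ mem_top b)) a)

theorem conj_eq_of_fixed {s u v : G} (hs : s ∈ centralizer ({c.t} : Set G)) (hs2 : s * s = 1)
    (hu : u ∈ zpowers c.y) {r : ℕ} (hr : r.Prime) (hr2 : r ≠ 2) (hru : orderOf u = r)
    (hsu : Commute s u) (hv : v ∈ zpowers c.y) {j : ℕ} (hvo : v ^ r ^ j = 1) : s * v * s⁻¹ = v := by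
  haveI := Fact.mk hr
  have hs' : s⁻¹ = s := inv_eq_of_mul_eq_one_right hs2
  set v' := s * v * s⁻¹ with hv'
  have hv'E : v' ∈ zpowers c.y := c.conj_mem_E hs hv
  set w := v⁻¹ * v' with hw
  by_contra hne
  have hwE : w ∈ zpowers c.y := mul_mem (inv_mem hv) hv'E
  have hw1 : w ≠ 1 := fun e' => hne (inv_mul_eq_one.1 e').symm
  have hcomm : Commute v⁻¹ v' := c.E_comm (inv_mem hv) hv'E
  have hwo : w ^ r ^ j = 1 := by
    rw [hw, hcomm.mul_pow, inv_pow, hvo, inv_one, one_mul, hv', conj_pow, hvo, mul_one, mul_inv_cancel]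
  have hsw : s * w * s⁻¹ = w⁻¹ := by
    rw [hw, mul_inv_rev, inv_inv, hv', hs']
    calc s * (v⁻¹ * (s * v * s)) * s = (s * v⁻¹ * s) * v * (s * s) := by group
      _ = (s * v * s)⁻¹ * v := by rw [hs2, mul_one, mul_inv_rev, mul_inv_rev, hs', ← mul_assoc]
  obtain ⟨k, hk⟩ : ∃ k : ℕ, orderOf (w ^ k) = r := by
    obtain ⟨i, -, hi⟩ := (Nat.dvd_prime_pow hr).1 (orderOf_dvd_of_pow_eq_one hwo)
    rcases i with _ | i
    · exact absurd (orderOf_eq_one_iff.1 (by rw [hi, pow_zero])) hw1
    · refine ⟨r ^ i, ?_⟩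
      rw [orderOf_pow_of_dvd (pow_ne_zero _ hr.ne_zero) (hi ▸ pow_dvd_pow r i.le_succ), hi, pow_succ,
        Nat.mul_div_cancel_left _ (pow_pos hr.pos i)]
  obtain ⟨i, hi⟩ := mem_zpowers_of_orderOf_eq (g := (⟨u, hu⟩ : zpowers c.y)) (x := ⟨w ^ k, pow_mem hwE k⟩)
    (by rw [orderOf_mk, orderOf_mk, hru, hk])
  have hi' : u ^ i = w ^ k := congrArg Subtype.val hi
  have h1 : s * w ^ k * s⁻¹ = w ^ k := by
    rw [← hi', (hsu.zpow_right i).eq, mul_inv_cancel_right]
  rw [← conj_pow, hsw, inv_pow] at h1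
  have h2 : orderOf (w ^ k) ∣ 2 := orderOf_dvd_of_pow_eq_one (by
    rw [pow_two]; nth_rewrite 1 [← h1]; exact inv_mul_cancel _)
  rw [hk] at h2
  exact hr2 ((Nat.prime_dvd_prime_iff_eq hr Nat.prime_two).1 h2)

/-- No involution of `T` outside `E` centralizes a non-trivial element of odd prime order of `N ∩ E`. -/
theorem no_fixed {s u : G} (hsT : s ∈ c.T) (hsE : s ∉ zpowers c.y) (hs2 : s * s = 1)
    (hu : u ∈ zpowers c.y) (huN : u ∈ N) {r : ℕ} (hr : r.Prime) (hr2 : r ≠ 2) (hru : orderOf u = r)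
    (hsu : Commute s u) : False := by
  classical
  haveI := Fact.mk Nat.prime_two
  haveI := Fact.mk hr
  haveI := c.normal
  haveI := c.simple
  have hsC := c.T_le_C hsT
  have hCu := c.centralizer_eq_of_mem hu hr hru (mem_singleton_centralizer.2 hsu.eq) hsE
  -- a Sylow subgroup of `G` inside `E`
  obtain ⟨R, hRE⟩ : ∃ R : Sylow r G, (R : Subgroup G) ≤ zpowers c.y := by
    obtain ⟨R, hR⟩ := (IsPGroup.of_card (n := 1) (show Nat.card (zpowers u) = r ^ 1 by
      rw [Nat.card_zpowers, hru, pow_one])).exists_le_sylow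
    haveI := c.data.sylow_cyclic hr2 (Or.inl (c.dvd_e_of_mem hu hru.symm.dvd)) R
    refine ⟨R, fun x hx => ?_⟩
    have hxu : x ∈ centralizer ({u} : Set G) := by
      letI := IsCyclic.commGroup (α := ↥(R : Subgroup G))
      exact mem_singleton_centralizer.2 (congrArg Subtype.val
        (mul_comm (⟨x, hx⟩ : ↥(R : Subgroup G)) ⟨u, hR (mem_zpowers u)⟩))
    refine c.odd_mem_E (hCu ▸ hxu) ?_
    obtain ⟨k, hk⟩ := IsPGroup.iff_orderOf.1 R.isPGroup' ⟨x, hx⟩
    rw [orderOf_mk] at hk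
    rw [hk]
    exact (hr.odd_of_ne_two hr2).pow
  obtain ⟨RN, hRN⟩ := Cfsg.Lib.Local.exists_sylow_inf R N
  have hmemR : ∀ x : N, x ∈ (RN : Subgroup N) ↔ (x : G) ∈ (R : Subgroup G) := fun x => by rw [hRN, mem_subgroupOf]
  have huR : u ∈ (R : Subgroup G) := by
    have hne : (R : Subgroup G) ≠ ⊥ := R.ne_bot_of_dvd_card (hru ▸ _root_.orderOf_dvd_natCard u)
    haveI : Nontrivial ↥(R : Subgroup G) := (R : Subgroup G).nontrivial_iff_ne_bot.2 hne
    obtain ⟨k, hk, hcard⟩ := R.isPGroup'.nontrivial_iff_card.1 ‹_›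
    obtain ⟨w, hw⟩ := exists_prime_orderOf_dvd_card' (G := ↥(R : Subgroup G)) r (hcard ▸ dvd_pow_self r hk.ne')
    obtain ⟨i, hi⟩ := mem_zpowers_of_orderOf_eq (g := (⟨(w : G), hRE w.2⟩ : zpowers c.y)) (x := ⟨u, hu⟩)
      (by rw [orderOf_mk, orderOf_mk, orderOf_coe, hw, hru])
    exact (zpowers_le.2 w.2) ⟨i, congrArg Subtype.val hi⟩
  obtain ⟨g, hgn, hgc⟩ : ∃ g : N, g ∈ normalizer (RN : Set N) ∧ g ∉ centralizer (RN : Set N) := by
    by_contra hc
    push Not at hc
    have hcomp := MonoidHom.ker_transferSylow_isComplement' RN hc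
    rcases IsSimpleGroup.eq_bot_or_eq_top_of_normal _ (MonoidHom.normal_ker (MonoidHom.transferSylow RN hc)) with h1 | h1
    · rw [h1, isComplement'_bot_left] at hcomp
      have h2 : 2 ∣ Nat.card (RN : Subgroup N) := by rw [hcomp, card_top]; exact c.even
      obtain ⟨k, hk⟩ := IsPGroup.iff_card.1 RN.isPGroup'
      rw [hk] at h2
      exact hr2 ((Nat.prime_dvd_prime_iff_eq Nat.prime_two hr).1 (Nat.prime_two.dvd_of_dvd_pow h2)).symm
    · rw [h1, isComplement'_top_left] at hcomp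
      have h2 : (⟨u, huN⟩ : N) ∈ (⊥ : Subgroup N) := hcomp ▸ (hmemR ⟨u, huN⟩).2 huR
      rw [mem_bot] at h2
      have : u = 1 := congrArg Subtype.val h2
      rw [this, orderOf_one] at hru
      exact hr.ne_one hru.symm
  set uN : N := ⟨u, huN⟩ with huN'
  have hguR : (g : G) * u * (g : G)⁻¹ ∈ (R : Subgroup G) :=
    (hmemR _).1 ((mem_normalizer_iff.1 hgn uN).1 ((hmemR uN).2 huR))
  have hguo : orderOf ((g : G) * u * (g : G)⁻¹) = r := (MulEquiv.orderOf_eq (MulAut.conj (g : G)) u).trans hru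
  have hgu : (g : G) * u * (g : G)⁻¹ ∈ zpowers u ∧ u ∈ zpowers ((g : G) * u * (g : G)⁻¹) := by
    constructor
    · obtain ⟨i, hi⟩ := mem_zpowers_of_orderOf_eq (g := (⟨u, hu⟩ : zpowers c.y))
        (x := ⟨_, hRE hguR⟩) (by rw [orderOf_mk, orderOf_mk, hru, hguo])
      exact ⟨i, congrArg Subtype.val hi⟩
    · obtain ⟨i, hi⟩ := mem_zpowers_of_orderOf_eq (g := (⟨_, hRE hguR⟩ : zpowers c.y))
        (x := ⟨u, hu⟩) (by rw [orderOf_mk, orderOf_mk, hru, hguo])
      exact ⟨i, congrArg Subtype.val hi⟩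
  have hgC : ∀ x ∈ centralizer ({c.t} : Set G), (g : G) * x * (g : G)⁻¹ ∈ centralizer ({c.t} : Set G) := by
    intro x hx
    rw [← hCu] at hx ⊢
    exact centralizer_conj hgu.1 hgu.2 hx
  set t1 := (g : G) * c.t * (g : G)⁻¹ with ht1
  have ht1o : orderOf t1 = 2 := (MulEquiv.orderOf_eq (MulAut.conj (g : G)) c.t).trans c.orderOf_t
  have ht12 : t1 * t1 = 1 := by rw [← pow_two, ← ht1o, pow_orderOf_eq_one]
  by_cases hfix : t1 = c.t
  · -- `g` centralizes the Sylow subgroup
    refine hgc (mem_centralizer_iff.2 fun x hx => ?_)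
    have hxR := (hmemR x).1 hx
    obtain ⟨j, hj⟩ := R.isPGroup' ⟨(x : G), hxR⟩
    have hj' : (x : G) ^ r ^ j = 1 := congrArg Subtype.val hj
    have hgCt : (g : G) ∈ centralizer ({c.t} : Set G) :=
      mem_singleton_centralizer.2 (mul_inv_eq_iff_eq_mul.1 hfix)
    have hconj : (g : G) * (x : G) * (g : G)⁻¹ = (x : G) := by
      by_cases hgE : (g : G) ∈ zpowers c.y
      · rw [(c.E_comm hgE (hRE hxR)).eq, mul_inv_cancel_right]
      · have h1 := c.mul_mem_E hgCt hsC hgE hsE
        have hsx := c.conj_eq_of_fixed hsC hs2 hu hr hr2 hru hsu (hRE hxR) hj'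
        calc (g : G) * (x : G) * (g : G)⁻¹ = ((g : G) * s) * (s⁻¹ * (x : G) * s) * ((g : G) * s)⁻¹ := by group
          _ = ((g : G) * s) * (x : G) * ((g : G) * s)⁻¹ := by
            congr 2
            rw [inv_eq_of_mul_eq_one_right hs2] at hsx ⊢
            exact hsx
          _ = _ := by rw [(c.E_comm h1 (hRE hxR)).eq, mul_inv_cancel_right]
    exact Subtype.ext (mul_inv_eq_iff_eq_mul.1 hconj).symm
  · -- the Sylow 2-subgroup is a four group with abelian centralizer
    have ht1C : t1 ∈ centralizer ({c.t} : Set G) := hgC c.t (mem_singleton_centralizer.2 rfl)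
    have ht1N : t1 ∈ N := mul_mem (mul_mem g.2 c.t_mem_N) (inv_mem g.2)
    have ht1cen : ∀ x ∈ centralizer ({c.t} : Set G), Commute x t1 := by
      intro x hx
      have hx' : (g : G)⁻¹ * x * (g : G) ∈ centralizer ({c.t} : Set G) := by
        -- the map is injective on a finite set
        let f : ↥(centralizer ({c.t} : Set G)) → ↥(centralizer ({c.t} : Set G)) :=
          fun z => ⟨(g : G) * z * (g : G)⁻¹, hgC z z.2⟩
        have hf : Function.Injective f := fun a b hab =>
          Subtype.ext (mul_left_cancel (mul_right_cancel (congrArg Subtype.val hab)))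
        obtain ⟨z, hz⟩ := (Finite.injective_iff_surjective.1 hf) ⟨x, hx⟩
        have hz' : (g : G) * (z : G) * (g : G)⁻¹ = x := congrArg Subtype.val hz
        rw [← hz', show (g : G)⁻¹ * ((g : G) * (z : G) * (g : G)⁻¹) * (g : G) = (z : G) by group]
        exact z.2
      have h2 := (Commute.conj_iff (g : G)).2 (mem_singleton_centralizer.1 hx')
      rwa [show (g : G) * ((g : G)⁻¹ * x * (g : G)) * (g : G)⁻¹ = x by group] at h2
    have ht1E : t1 ∉ zpowers c.y := fun hE => hfix ((c.E_invol hE ht12).resolve_left fun e' => by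
      rw [e', orderOf_one] at ht1o; omega)
    have ht1T : t1 ∈ c.T := by
      obtain ⟨P, hP⟩ := c.T_sylow
      have hQ : IsPGroup 2 ((c.T ⊔ zpowers t1 : Subgroup G).subgroupOf N) := by
        refine (IsPGroup.to_sup_of_normal_right' (IsPGroup.of_card (n := 1) (by rw [Nat.card_zpowers, ht1o, pow_one]))
          c.isPGroup_T ?_ |> fun h => (sup_comm (zpowers t1) c.T ▸ h : IsPGroup 2 (c.T ⊔ zpowers t1 : Subgroup G))).comap_subtype
        refine zpowers_le.2 (mem_normalizer_iff.2 fun x => ?_)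
        constructor
        · intro hx; rw [← (ht1cen x (c.T_le_C hx)).eq, mul_inv_cancel_right]; exact hx
        · intro hx
          have h1 := ht1cen _ (c.T_le_C hx)
          have h2 : t1 * x * t1⁻¹ = x := by
            have h3 := congrArg (fun z => t1⁻¹ * z) h1.eq
            simp only [inv_mul_cancel_left] at h3
            rw [mul_assoc, mul_assoc] at h3
            simpa [mul_assoc] using h3.symm
          rwa [h2] at hx
      have h3 := P.is_maximal' hQ (by rw [hP]; exact fun x hx => mem_sup_left hx)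
      have : (⟨t1, ht1N⟩ : N) ∈ (P : Subgroup N) := h3 ▸ mem_sup_right (mem_zpowers t1)
      rw [hP] at this
      exact this
    obtain ⟨a, s0, haE, hs0T, hs0E, hs02, hinv, hgen, hcl, -⟩ := c.exists_dihedral
    have haT : a ∈ c.T := (hgen.ge (mem_zpowers a)).1
    have ha2 : a * a = 1 := by
      have h1 : Commute a t1 := ht1cen a (c.T_le_C haT)
      have h2 : t1 * s0 ∈ zpowers c.y := c.mul_mem_E ht1C (c.T_le_C hs0T) ht1E hs0E
      have h3 : Commute a (t1 * s0) := c.E_comm haE h2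
      have h4 : Commute a (t1⁻¹ * (t1 * s0)) := h1.inv_right.mul_right h3
      rw [inv_mul_cancel_left] at h4
      rw [← h4.eq, mul_inv_cancel_right] at hinv
      exact eq_inv_iff_mul_eq_one.1 hinv
    have hTcases : ∀ z ∈ c.T, z = 1 ∨ z = c.t ∨ z = t1 ∨ z = c.t * t1 := by
      intro z hz
      have hE2 : ∀ w ∈ c.T, w ∈ zpowers c.y → w = 1 ∨ w = c.t := fun w hw hwE => by
        refine c.E_invol hwE ?_
        obtain ⟨i, rfl⟩ : w ∈ zpowers a := hgen ▸ ⟨hw, hwE⟩
        show a ^ i * a ^ i = 1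
        rw [← (Commute.refl a).mul_zpow, ha2, one_zpow]
      by_cases hzE : z ∈ zpowers c.y
      · rcases hE2 z hz hzE with h | h
        · exact Or.inl h
        · exact Or.inr (Or.inl h)
      · have h1 := c.mul_mem_E (c.T_le_C hz) ht1C hzE ht1E
        have h2 : z * t1 * t1 = z := by rw [mul_assoc, ht12, mul_one]
        rcases hE2 _ (mul_mem hz ht1T) h1 with h | h <;> rw [h] at h2
        · exact Or.inr (Or.inr (Or.inl (by rw [← h2, one_mul])))
        · exact Or.inr (Or.inr (Or.inr h2.symm))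
    -- the centralizer is abelian
    have hCcomm : ∀ x ∈ centralizer ({c.t} : Set G), ∀ z ∈ centralizer ({c.t} : Set G), Commute x z := by
      have key : ∀ x ∈ centralizer ({c.t} : Set G), ∀ w ∈ zpowers c.y, Commute x w := by
        intro x hx w hw
        by_cases hxE : x ∈ zpowers c.y
        · exact c.E_comm hxE hw
        · have h1 : Commute (x * t1) w := c.E_comm (c.mul_mem_E hx ht1C hxE ht1E) hw
          have h2 : Commute t1 w := (ht1cen w (c.E_le hw)).symm
          have h3 := h1.mul_left h2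
          rwa [mul_assoc, ht12, mul_one] at h3
      intro x hx z hz
      by_cases hzE : z ∈ zpowers c.y
      · exact key x hx z hzE
      · have h1 : Commute x (z * t1) := key x hx _ (c.mul_mem_E hz ht1C hzE ht1E)
        have h3 := h1.mul_right (ht1cen x hx)
        rwa [mul_assoc, ht12, mul_one] at h3
    let A : Subgroup N := (centralizer ({c.t} : Set G)).subgroupOf N
    have hA : Cfsg.Lib.Char.CAEven.IsCA A := by
      refine ⟨fun x hx z hz => Subtype.ext (hCcomm x (mem_subgroupOf.1 hx) z (mem_subgroupOf.1 hz)).eq,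
        fun x hx hx1 => ?_⟩
      have hxC : (x : G) ∈ centralizer ({c.t} : Set G) := mem_subgroupOf.1 hx
      have hCx : centralizer ({(x : G)} : Set G) = centralizer ({c.t} : Set G) := by
        obtain ⟨l, hl, hld⟩ := Nat.exists_prime_and_dvd
          (fun e' => hx1 (Subtype.ext (orderOf_eq_one_iff.1 e') : x = 1) : orderOf (x : G) ≠ 1)
        obtain ⟨d, hd⟩ := hld
        have hd0 : d ≠ 0 := fun e' => by rw [e', mul_zero] at hd; exact (orderOf_pos (x : G)).ne' hd
        have hxd : orderOf ((x : G) ^ d) = l := by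
          rw [orderOf_pow_of_dvd hd0 (hd ▸ dvd_mul_left d l), hd, Nat.mul_div_cancel _ (Nat.pos_of_ne_zero hd0)]
        have hle : l ∣ e := by
          have h1 : l ∣ 2 * e := c.cardC ▸ hxd ▸ Subgroup.orderOf_dvd_natCard (centralizer ({c.t} : Set G)) (pow_mem hxC d)
          rcases hl.dvd_mul.1 h1 with h2 | h2
          · exact h2.trans c.data.he
          · exact h2
        have h2 : centralizer ({c.t} : Set G) ≤ centralizer ({(x : G)} : Set G) := fun z hz =>
          mem_singleton_centralizer.2 (hCcomm z hz (x : G) hxC).eq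
        refine (eq_of_le_of_card_ge h2 ?_).symm
        rw [c.cardC]
        refine Nat.le_of_dvd (by have := c.data.he2; omega) ((card_dvd_of_le ?_).trans (c.data.centralizer_e hl hle hxd))
        intro z hz
        exact mem_singleton_centralizer.2 ((Commute.pow_right (mem_singleton_centralizer.1 hz) d)).eq
      ext z
      rw [show z ∈ A ↔ (z : G) ∈ centralizer ({c.t} : Set G) from mem_subgroupOf, ← hCx,
        mem_singleton_centralizer, mem_centralizer_singleton_iff, Subtype.ext_iff]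
      rfl
    set tN : N := ⟨c.t, c.t_mem_N⟩
    -- all involutions are conjugate
    have hall : ∀ x : N, x ≠ 1 → x * x = 1 → IsConj tN x := by
      intro x hx1 hx2
      have hxo : orderOf (x : G) = 2 := by
        rw [orderOf_coe]; exact orderOf_eq_prime (by rw [pow_two, hx2]) hx1
      obtain ⟨n, hnN, hn⟩ := Cfsg.Lib.Local.exists_conj_mem_inf c.S (N := N)
        (IsPGroup.of_card (n := 1) (show Nat.card (zpowers (x : G)) = 2 ^ 1 by rw [Nat.card_zpowers, hxo, pow_one]))
        (zpowers_le.2 x.2)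
      have hxT : n * (x : G) * n⁻¹ ∈ c.T := hn _ (mem_zpowers _)
      have hclass : ∀ z ∈ c.T, orderOf z = 2 → ∃ m ∈ N, m * c.t * m⁻¹ = z := by
        intro z hz hzo
        rcases hTcases z hz with e1 | e1 | e1 | e1
        · rw [e1, orderOf_one] at hzo; omega
        · exact ⟨1, one_mem _, by simp [e1]⟩
        · exact ⟨(g : G), g.2, e1.symm⟩
        · obtain ⟨m, hmN, hne, hmT⟩ := c.exists_partner hz hzo
          have hback : ∀ w : G, ∀ k ∈ N, k * c.t * k⁻¹ = w → m * z * m⁻¹ = w →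
              ∃ m ∈ N, m * c.t * m⁻¹ = z := fun w k hk h1 h2 => by
            refine ⟨m⁻¹ * k, mul_mem (inv_mem hmN) hk, ?_⟩
            rw [show m⁻¹ * k * c.t * (m⁻¹ * k)⁻¹ = m⁻¹ * (k * c.t * k⁻¹) * m by group, h1, ← h2]
            group
          rcases hTcases _ hmT with e2 | e2 | e2 | e2
          · rw [conj_eq_one_iff] at e2
            rw [e2, orderOf_one] at hzo; omega
          · exact hback _ 1 (one_mem _) (by group) e2
          · exact hback _ (g : G) g.2 rfl e2
          · exact absurd (e2.trans e1.symm) hne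
      obtain ⟨m, hmN, hm⟩ := hclass _ hxT ((MulEquiv.orderOf_eq (MulAut.conj n) (x : G)).trans hxo)
      refine isConj_iff.2 ⟨⟨n⁻¹ * m, mul_mem (inv_mem hnN) hmN⟩, Subtype.ext ?_⟩
      show n⁻¹ * m * c.t * (n⁻¹ * m)⁻¹ = (x : G)
      rw [show n⁻¹ * m * c.t * (n⁻¹ * m)⁻¹ = n⁻¹ * (m * c.t * m⁻¹) * n by group, hm]
      group
    have hproper : normalizer (A : Set N) ≠ ⊤ := by
      intro htop
      haveI : A.Normal := normalizer_eq_top_iff.1 htop
      rcases IsSimpleGroup.eq_bot_or_eq_top_of_normal A ‹_› with e1 | e1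
      · have h1 : tN ∈ A := mem_subgroupOf.2 (mem_singleton_centralizer.2 rfl)
        rw [e1, mem_bot] at h1
        exact c.t_ne (congrArg Subtype.val h1)
      · exact c.not_solvable (Group.isSolvable_of_comm fun x z => hA.comm x (e1 ▸ mem_top x) z (e1 ▸ mem_top z))
    letI := Fintype.ofFinite N
    have huA : uN ∈ A := mem_subgroupOf.2 (c.E_le hu)
    have h := Cfsg.Lib.Char.CAEven.sq_eq_one hA (t := tN) (mem_subgroupOf.2 (mem_singleton_centralizer.2 rfl))
      (fun e' => c.t_ne (congrArg Subtype.val e')) (Subtype.ext (by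
        show c.t * c.t = 1
        rw [← pow_two, ← c.orderOf_t, pow_orderOf_eq_one]))
      (fun x z hx hx2 hz hz2 => (hall x hx hx2).symm.trans (hall z hz hz2))
      (t' := ⟨t1, ht1N⟩) (mem_subgroupOf.2 ht1C) (fun e' => by
        have : t1 = 1 := congrArg Subtype.val e'
        rw [this, orderOf_one] at ht1o; omega)
      (Subtype.ext ht12) (fun e' => hfix (congrArg Subtype.val e')) hproper uN huA
    have h' : u * u = 1 := congrArg Subtype.val h
    have := orderOf_dvd_of_pow_eq_one (show u ^ 2 = 1 by rw [pow_two, h'])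
    rw [hru] at this
    exact hr2 ((Nat.prime_dvd_prime_iff_eq hr Nat.prime_two).1 this)

theorem inverts {s w : G} (hsT : s ∈ c.T) (hsE : s ∉ zpowers c.y) (hs2 : s * s = 1)
    (hw : w ∈ zpowers c.y) (hwN : w ∈ N) (hodd : Odd (orderOf w)) : s * w * s⁻¹ = w⁻¹ := by
  by_contra hne
  have hs' : s⁻¹ = s := inv_eq_of_mul_eq_one_right hs2
  set v := w * (s * w * s⁻¹) with hv
  have hvE : v ∈ zpowers c.y := mul_mem hw (c.conj_mem_E (c.T_le_C hsT) hw)
  have hvN : v ∈ N := mul_mem hwN (c.normal.conj_mem w hwN s)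
  have hv1 : v ≠ 1 := fun e' => hne (eq_inv_of_mul_eq_one_right e')
  have hvodd : Odd (orderOf v) := by
    refine Odd.of_dvd_nat hodd (orderOf_dvd_of_pow_eq_one ?_)
    rw [hv, (c.E_comm hw (c.conj_mem_E (c.T_le_C hsT) hw)).mul_pow, conj_pow, pow_orderOf_eq_one]
    group
  have hsv : Commute s v := by
    have h1 : s * v * s⁻¹ = v := by
      rw [hv, (c.E_comm hw (c.conj_mem_E (c.T_le_C hsT) hw)).eq, hs']
      calc s * (s * w * s * w) * s = (s * s) * w * (s * w * s) := by group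
        _ = w * (s * w * s) := by rw [hs2, one_mul]
        _ = _ := (c.E_comm hw (by
          have := c.conj_mem_E (c.T_le_C hsT) hw
          rwa [hs'] at this)).eq
    exact mul_inv_eq_iff_eq_mul.1 h1
  obtain ⟨r, k, hr, hr2, hk⟩ := exists_prime_power_elt hv1 hvodd
  exact c.no_fixed hsT hsE hs2 (pow_mem hvE k) (pow_mem hvN k) hr hr2 hk (hsv.pow_right k)

include c in
/-- The simple normal subgroup is a two-dimensional projective special linear group. -/
theorem exists_psl : ∃ (K : Type) (_ : Field K) (_ : Fintype K), Odd (Fintype.card K) ∧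
    Nonempty (N ≃* Matrix.ProjectiveSpecialLinearGroup (Fin 2) K) := by
  classical
  haveI := Fact.mk Nat.prime_two
  haveI := c.simple
  haveI := c.normal
  obtain ⟨a, s, haE, hsT, hsE, hs2, hinv, hgen, hcl, ha2⟩ := c.exists_dihedral
  obtain ⟨P, hP⟩ := c.T_sylow
  have hmemP : ∀ x : N, x ∈ (P : Subgroup N) ↔ (x : G) ∈ c.T := fun x => by rw [hP, mem_subgroupOf]
  have haT : a ∈ c.T := (hgen.ge (mem_zpowers a)).1
  obtain ⟨e1⟩ := Cfsg.Lib.TwoGroup.equiv_dihedral hs2 hinv fun h => hsE ((zpowers_le.2 haE) h)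
  have eP : (P : Subgroup N) ≃* DihedralGroup (orderOf a) :=
    ((MulEquiv.subgroupCongr hP).trans (subgroupOfEquivOfLe (show c.T ≤ N from inf_le_right))).trans
      ((MulEquiv.subgroupCongr hcl.symm).trans e1)
  set tN : N := ⟨c.t, c.t_mem_N⟩ with htN
  set C := centralizer ({tN} : Set N) with hC
  set O := (Cfsg.oddCore C).map C.subtype with hO
  have hOmem : ∀ x ∈ O, (x : G) ∈ zpowers c.y ∧ Odd (orderOf (x : G)) := by
    rintro x ⟨z, hz, rfl⟩
    have hodd : Odd (orderOf ((z : N) : G)) := by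
      rw [orderOf_coe, orderOf_coe]
      refine Odd.of_dvd_nat (Nat.coprime_two_right.1 (Cfsg.Lib.Core.pPrimeCore_coprime 2 C)) ?_
      exact Subgroup.orderOf_dvd_natCard _ hz
    exact ⟨c.odd_mem_E (mem_singleton_centralizer.2 (congrArg Subtype.val (mem_centralizer_singleton_iff.1 z.2))) hodd, hodd⟩
  have hout : ∀ z ∈ c.T, z ∉ zpowers c.y → z * z = 1 := by
    intro z hz hzE
    obtain ⟨i, hi⟩ : z * s ∈ zpowers a :=
      hgen ▸ ⟨mul_mem hz hsT, c.mul_mem_E (c.T_le_C hz) (c.T_le_C hsT) hzE hsE⟩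
    have hzi : z = a ^ i * s := by rw [show a ^ i = z * s from hi, mul_assoc, hs2, mul_one]
    have h1 : s * a ^ i * s⁻¹ = a ^ (-i) := by rw [← conj_zpow, hinv, inv_zpow, zpow_neg]
    rw [inv_eq_of_mul_eq_one_right hs2] at h1
    rw [hzi, mul_assoc, ← mul_assoc s, h1, zpow_neg, mul_inv_cancel]
  have hbInv : ∀ z ∈ (P : Subgroup N), (z : G) ∉ zpowers c.y → ∀ w ∈ O, z * w * z⁻¹ = w⁻¹ := by
    intro z hz hzE w hw
    apply Subtype.ext
    exact c.inverts ((hmemP z).1 hz) hzE (hout _ ((hmemP z).1 hz) hzE) (hOmem w hw).1 w.2 (hOmem w hw).2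
  have hCE : ∀ z ∈ (P : Subgroup N), (z : G) ∈ zpowers c.y → z ∈ centralizer (O : Set N) := fun z _ hzE =>
    mem_centralizer_iff.2 fun w hw => Subtype.ext (c.E_comm (hOmem w hw).1 hzE).eq
  refine Cfsg.Agent.S0508.result P (orderOf a) ha2 ⟨eP⟩ tN (by rw [htN, orderOf_mk, c.orderOf_t])
    ((hmemP tN).2 c.t_mem_T) (fun x hx => Subtype.ext (mem_singleton_centralizer.1 (c.T_le_C ((hmemP x).1 hx))))
    O rfl ?_ ?_ ?_
  · intro hne
    obtain ⟨w, hw, hw1⟩ := (bot_or_exists_ne_one O).resolve_left hne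
    have heq : (P : Subgroup N) ⊓ centralizer (O : Set N) = (zpowers a).subgroupOf N := by
      ext z
      rw [mem_subgroupOf]
      constructor
      · rintro ⟨hzP, hzC⟩
        refine hgen ▸ ⟨(hmemP z).1 hzP, ?_⟩
        by_contra hzE
        have h1 := hbInv z hzP hzE w hw
        rw [← mem_centralizer_iff.1 hzC w hw, mul_inv_cancel_right] at h1
        refine hw1 (orderOf_eq_one_iff.1 (Nat.eq_one_of_dvd_coprimes ?_ (dvd_refl _)
          (orderOf_dvd_of_pow_eq_one (show w ^ 2 = 1 by rw [pow_two]; exact eq_inv_iff_mul_eq_one.1 h1))))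
        rw [← orderOf_coe]
        exact Nat.coprime_two_right.2 (hOmem w hw).2
      · intro hz
        have h1 : (z : G) ∈ c.T ⊓ zpowers c.y := hgen ▸ hz
        exact ⟨(hmemP z).2 h1.1, hCE z ((hmemP z).2 h1.1) h1.2⟩
    rw [heq]
    constructor
    · exact isCyclic_of_injective (subgroupOfEquivOfLe (zpowers_le.2 haT.2)).toMonoidHom (MulEquiv.injective _)
    · rw [hP, relIndex_subgroupOf (show c.T ≤ N from inf_le_right), ← hgen, inf_comm, inf_relIndex_right]
      exact c.relIndex_T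
  · intro z hz hzC w hw
    refine hbInv z hz (fun hzE => hzC (hCE z hz hzE)) w hw
  · intro Y hYO hY g hg
    obtain ⟨w, hw, hw1⟩ := (bot_or_exists_ne_one Y).resolve_left hY
    obtain ⟨hwE, hwodd⟩ := hOmem w (hYO hw)
    obtain ⟨r, k, hr, hr2, hk⟩ := exists_prime_power_elt
      (fun e' => hw1 (Subtype.ext e') : (w : G) ≠ 1) hwodd
    set u := (w : G) ^ k with hu
    have huY : w ^ k ∈ Y := pow_mem hw k
    have huE : u ∈ zpowers c.y := pow_mem hwE k
    have hguY : (g : G) * u * (g : G)⁻¹ ∈ zpowers c.y :=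
      (hOmem _ (hYO ((mem_normalizer_iff.1 hg (w ^ k)).1 huY))).1
    have hguo : orderOf ((g : G) * u * (g : G)⁻¹) = r := (MulEquiv.orderOf_eq (MulAut.conj (g : G)) u).trans hk
    obtain ⟨i, hi⟩ := mem_zpowers_of_orderOf_eq (g := (⟨u, huE⟩ : zpowers c.y)) (x := ⟨_, hguY⟩)
      (by rw [orderOf_mk, orderOf_mk, hk, hguo])
    obtain ⟨j, hj⟩ := mem_zpowers_of_orderOf_eq (g := (⟨_, hguY⟩ : zpowers c.y)) (x := ⟨u, huE⟩)
      (by rw [orderOf_mk, orderOf_mk, hk, hguo])
    obtain ⟨hEC, hCt⟩ := c.centralizer_mem_cases huE hr hk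
    have ht1 := centralizer_conj (g := (g : G)) ⟨i, congrArg Subtype.val hi⟩ ⟨j, congrArg Subtype.val hj⟩
      (hEC c.t_mem_E)
    refine mem_centralizer_singleton_iff.2 (Subtype.ext ?_)
    by_cases hE : (g : G) * c.t * (g : G)⁻¹ ∈ zpowers c.y
    · rcases c.E_invol hE (by
        rw [show (g : G) * c.t * (g : G)⁻¹ * ((g : G) * c.t * (g : G)⁻¹) = (g : G) * (c.t * c.t) * (g : G)⁻¹ by group,
          show c.t * c.t = 1 by rw [← pow_two, ← c.orderOf_t, pow_orderOf_eq_one]]
        group) with e2 | e2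
      · exact absurd (conj_eq_one_iff.1 e2) c.t_ne
      · exact mul_inv_eq_iff_eq_mul.1 e2
    · exfalso
      have hsu : s ∈ centralizer ({u} : Set G) := by
        rw [c.centralizer_eq_of_mem huE hr hk ht1 hE]
        exact c.T_le_C hsT
      exact c.no_fixed hsT hsE hs2 huE (pow_mem w.2 k) hr hr2 hk (mem_singleton_centralizer.1 hsu)

end Cfg

end Cfsg.Lib.Recog.OrderSpecPSL
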