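import Cfsg.Agent.Lib.Recog.OrderSpecPSL.Basic
import Cfsg.Agent.Lib.Local.Sylow
import Cfsg.Agent.Lib.ZStar.Main
import Cfsg.Agent.Lib.TwoGroup.FusionInvariant
import Cfsg.Agent.Lib.TwoGroup.Models

/-!
# Groups with the order and the element orders of `PSL(2, q)`, `q` odd: the simple normal subgroup
-/

set_option autoImplicit false
set_option linter.style.haveILetI false

namespace Cfsg.Lib.Recog.OrderSpecPSL

open Subgroup

universe u

variable {G : Type u} [Group G] [Finite G] {p q e o : ℕ}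

namespace Data

theorem no_abelian_normal (h : Data G p q e o) (N : Subgroup G) [N.Normal] (hN : Group.IsSolvable N) : N = ⊥ := by
  by_contra hne
  obtain ⟨M, hM, hMN⟩ := Cfsg.Lib.Core.exists_isMinNormal ‹N.Normal› hne
  haveI := hM.1
  haveI := hN
  obtain ⟨-, r, hr, hexp, hMp⟩ := Cfsg.Lib.Core.minimal_solvable_elementary hM
    (Group.isSolvable_of_isSolvable_injective (f := inclusion hMN) (inclusion_injective hMN))
  exact hM.2.1 (h.no_elementary_normal M hr hMp hexp)

/-- A simple normal subgroup of even order. -/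
theorem exists_simple_normal (h : Data G p q e o) :
    ∃ N : Subgroup G, N.Normal ∧ IsSimpleGroup N ∧ 2 ∣ Nat.card N := by
  classical
  haveI : Nontrivial G := by
    obtain ⟨g, hg⟩ := h.exP
    exact ⟨⟨g, 1, fun e' => h.hp.ne_one (by rw [← hg, e', orderOf_one])⟩⟩
  obtain ⟨N, hN⟩ := Cfsg.Lib.Core.exists_isMinNormal_univ (G := G)
  haveI := hN.1
  have hns : ¬ Group.IsSolvable N := fun hs => hN.2.1 (h.no_abelian_normal N hs)
  have h2N : 2 ∣ Nat.card N := by
    by_contra h2
    exact hns (h.solvable_of_odd N (Nat.not_even_iff_odd.1 fun he => h2 (even_iff_two_dvd.1 he)))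
  refine ⟨N, hN.1, ?_, h2N⟩
  haveI : Nontrivial N := N.nontrivial_iff_ne_bot.2 hN.2.1
  refine ⟨fun K hK => ?_⟩
  by_contra hK'
  obtain ⟨hK0, hK1⟩ := not_or.1 hK'
  obtain ⟨S0, hS0, hS0K⟩ := Cfsg.Lib.Core.exists_isMinNormal hK hK0
  have hS0top : S0 ≠ ⊤ := fun e' => hK1 (top_le_iff.1 (e' ▸ hS0K))
  set S := S0.map N.subtype with hS
  have hSN : S ≤ N := map_subtype_le S0
  haveI := hS0.1
  -- the minimal normal subgroups of `N` are not solvable
  have hS0ns : ¬ Group.IsSolvable S0 := by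
    intro hs
    haveI := hs
    obtain ⟨-, r, hr, -, hS0p⟩ := Cfsg.Lib.Core.minimal_solvable_elementary hS0 hs
    haveI := Fact.mk hr
    have hle : S0 ≤ Cfsg.pCore r N := Cfsg.Lib.Core.le_pCore hS0p
    haveI : (Cfsg.pCore r N).Characteristic := inferInstance
    have hnormal : ((Cfsg.pCore r N).map N.subtype).Normal := inferInstance
    rcases hN.2.2 _ hnormal (map_subtype_le _) with e1 | e1
    · rw [map_eq_bot_iff_of_injective _ N.subtype_injective] at e1
      exact hS0.2.1 (le_bot_iff.1 (e1 ▸ hle))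
    · refine hns ?_
      have e2 : Cfsg.pCore r N = ⊤ := map_injective N.subtype_injective (by
        rw [e1, ← MonoidHom.range_eq_map, range_subtype])
      have hNp : IsPGroup r N := (Cfsg.Lib.Core.pCore_isPGroup r N).of_equiv ((MulEquiv.subgroupCongr e2).trans topEquiv)
      haveI := hNp.isNilpotent
      infer_instance
  -- a conjugate different from it
  obtain ⟨g, hg⟩ : ∃ g : G, S.map (MulAut.conj g).toMonoidHom ≠ S := by
    by_contra hc
    push Not at hc
    have hnormal : S.Normal := ⟨fun x hx g => by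
      rw [← hc g]; exact ⟨x, hx, rfl⟩⟩
    rcases hN.2.2 S hnormal hSN with e1 | e1
    · exact hS0.2.1 ((map_eq_bot_iff_of_injective _ N.subtype_injective).1 e1)
    · exact hS0top (map_injective N.subtype_injective (by
        rw [← hS, e1, ← MonoidHom.range_eq_map, range_subtype]))
  set T := S.map (MulAut.conj g).toMonoidHom with hT
  have hTN : T ≤ N := by
    rintro x ⟨y, hy, rfl⟩
    exact Subgroup.Normal.conj_mem hN.1 y (hSN hy) g
  have hTinj : Function.Injective (MulAut.conj g).toMonoidHom := (MulAut.conj g).injective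
  -- `T` is normal in `N`
  have hTn : (T.subgroupOf N).Normal := by
    refine ⟨fun x hx n => ?_⟩
    rw [mem_subgroupOf] at hx ⊢
    obtain ⟨y, ⟨y0, hy0, rfl⟩, hy⟩ := hx
    have hn : g⁻¹ * (n : G) * g ∈ N := by
      simpa using Subgroup.Normal.conj_mem hN.1 n n.2 g⁻¹
    refine ⟨g⁻¹ * (n : G) * g * (y0 : G) * (g⁻¹ * (n : G) * g)⁻¹,
      ⟨⟨_, hn⟩ * y0 * ⟨_, hn⟩⁻¹, hS0.1.conj_mem y0 hy0 _, rfl⟩, ?_⟩
    have hy' : g * (y0 : G) * g⁻¹ = (x : G) := hy
    show g * (g⁻¹ * (n : G) * g * (y0 : G) * (g⁻¹ * (n : G) * g)⁻¹) * g⁻¹ = (n : G) * (x : G) * (n : G)⁻¹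
    rw [← hy']; group
  have hdisj : S0 ⊓ T.subgroupOf N = ⊥ := by
    rcases hS0.2.2 (S0 ⊓ T.subgroupOf N) inferInstance inf_le_left with e1 | e1
    · exact e1
    · exfalso
      have hle : S ≤ T := by
        rintro x ⟨y, hy, rfl⟩
        exact (inf_eq_left.1 e1) hy
      exact hg (eq_of_le_of_card_ge hle (by rw [hT, card_map_of_injective hTinj])).symm
  have hcomm : ∀ a ∈ S, ∀ b ∈ T, Commute a b := by
    rintro a ⟨a0, ha0, rfl⟩ b hb
    have := commute_of_normal_of_disjoint S0 (T.subgroupOf N) hS0.1 hTn (disjoint_iff.2 hdisj) a0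
      ⟨b, hTN hb⟩ ha0 hb
    exact congrArg Subtype.val this
  -- an involution and an odd prime
  have hcardS : Nat.card S = Nat.card S0 := card_map_of_injective N.subtype_injective
  have hSeven : 2 ∣ Nat.card S0 := by
    by_contra h2
    refine hS0ns ?_
    haveI := h.solvable_of_odd S (by
      rw [hcardS]; exact Nat.not_even_iff_odd.1 fun he => h2 (even_iff_two_dvd.1 he))
    exact Group.isSolvable_of_isSolvable_injective (f := (equivMapOfInjective S0 N.subtype N.subtype_injective).toMonoidHom)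
      (MulEquiv.injective _)
  haveI := Fact.mk Nat.prime_two
  obtain ⟨⟨t, htS⟩, hto⟩ := exists_prime_orderOf_dvd_card' (G := S) 2 (hcardS ▸ hSeven)
  rw [orderOf_mk] at hto
  obtain ⟨r, hr, hrd, hr2⟩ : ∃ r : ℕ, r.Prime ∧ r ∣ Nat.card S ∧ r ≠ 2 := by
    by_contra hc
    push Not at hc
    have hp2 : IsPGroup 2 S0 := IsPGroup.of_card (n := (Nat.card S0).primeFactorsList.length)
      (Nat.eq_prime_pow_of_unique_prime_dvd Nat.card_pos.ne' fun {s} hs hsd => hc s hs (hcardS ▸ hsd))
    haveI := hp2.isNilpotent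
    exact hS0ns inferInstance
  haveI := Fact.mk hr
  obtain ⟨⟨x, hxS⟩, hxo⟩ := exists_prime_orderOf_dvd_card' (G := S) r hrd
  rw [orderOf_mk] at hxo
  have hyT : g * x * g⁻¹ ∈ T := ⟨x, hxS, rfl⟩
  have hyo : orderOf (g * x * g⁻¹) = r := by
    rw [show g * x * g⁻¹ = MulAut.conj g x from rfl, MulEquiv.orderOf_eq, hxo]
  have hre : r ∣ e := by
    have hc : Commute t (g * x * g⁻¹) := hcomm t htS _ hyT
    have hord : orderOf (t * (g * x * g⁻¹)) = 2 * r := by
      rw [hc.orderOf_mul_eq_mul_orderOf_of_coprime, hto, hyo]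
      rw [hto, hyo]; exact (Nat.coprime_primes Nat.prime_two hr).2 (Ne.symm hr2)
    rcases h.spec (t * (g * x * g⁻¹)) with h1 | h1 | h1 <;> rw [hord] at h1
    · exact absurd (((Nat.prime_dvd_prime_iff_eq Nat.prime_two h.hp).1 ((dvd_mul_right 2 r).trans h1))).symm h.hp2
    · exact (dvd_mul_left r 2).trans h1
    · exact absurd ((dvd_mul_right 2 r).trans h1) h.ho
  -- the two commuting subgroups of order `r` coincide
  have hx1 : x ≠ 1 := fun e' => hr.ne_one (by rw [← hxo, e', orderOf_one])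
  have hcx : Commute x (g * x * g⁻¹) := hcomm x hxS _ hyT
  have hXY : IsPGroup r (zpowers x ⊔ zpowers (g * x * g⁻¹) : Subgroup G) := by
    refine IsPGroup.to_sup_of_normal_right' (IsPGroup.of_card (n := 1) (by rw [Nat.card_zpowers, hxo, pow_one]))
      (IsPGroup.of_card (n := 1) (by rw [Nat.card_zpowers, hyo, pow_one])) ?_
    exact zpowers_le.2 (le_normalizer_of_commute hcx)
  obtain ⟨R, hR⟩ := hXY.exists_le_sylow
  haveI := h.sylow_cyclic hr2 (Or.inl hre) R
  have hmem : x ∈ zpowers (g * x * g⁻¹) := by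
    obtain ⟨i, hi⟩ := mem_zpowers_of_orderOf_eq
      (g := (⟨g * x * g⁻¹, hR (mem_sup_right (mem_zpowers _))⟩ : ↥(R : Subgroup G)))
      (x := ⟨x, hR (mem_sup_left (mem_zpowers _))⟩) (by rw [orderOf_mk, orderOf_mk, hyo, hxo])
    exact ⟨i, congrArg Subtype.val hi⟩
  have hxT : x ∈ T := (zpowers_le.2 hyT) hmem
  obtain ⟨x0, hx0, hx0'⟩ := hxS
  have : x0 ∈ (⊥ : Subgroup N) := hdisj ▸ ⟨hx0, show (x0 : G) ∈ T by rw [show (x0 : G) = x from hx0']; exact hxT⟩
  exact hx1 (by rw [← hx0', mem_bot.1 this]; rfl)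
where
  le_normalizer_of_commute {a b : G} (hc : Commute a b) : a ∈ normalizer (zpowers b : Set G) := by
    refine mem_normalizer_iff.2 fun y => ?_
    have key : ∀ y : G, y ∈ zpowers b → a * y * a⁻¹ = y := by
      rintro y ⟨i, rfl⟩
      rw [(hc.zpow_right i).eq, mul_inv_cancel_right]
    refine ⟨fun hy => by rw [key y hy]; exact hy, fun hy => ?_⟩
    have h2 := key _ hy
    have : a * y * a⁻¹ = y := by
      have := congrArg (fun z => a⁻¹ * z * a) h2
      simpa [mul_assoc] using this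
    rwa [this] at hy

end Data

end Cfsg.Lib.Recog.OrderSpecPSL
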